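import Cfsg.Agent.Chev.Univ.Section

/-! Certificates. -/

set_option autoImplicit false
set_option Elab.async false
set_option maxHeartbeats 0
set_option maxRecDepth 20000

open Cfsg.Lie

namespace Cfsg.Lib.Chev.Univ

theorem E6_u0 : okBase chevE6 E6.cert 0 [(0, (26, 60)), (1, (19, 63)), (2, (17, 65)), (3, (16, 66)), (4, (16, 66)), (16, (17, 65)), (17, (16, 66)), (18, (16, 66)), (19, (16, 66)), (20, (16, 66)), (21, (16, 66)), (22, (18, 64)), (23, (17, 65)), (24, (16, 66)), (25, (16, 66)), (26, (16, 66)), (27, (16, 66)), (28, (16, 66)), (29, (16, 66)), (30, (18, 64)), (31, (17, 65)), (32, (16, 66)), (33, (17, 65)), (34, (18, 64)), (35, (16, 66)), (36, (16, 66)), (37, (18, 64)), (38, (17, 65)), (39, (16, 66)), (40, (17, 65)), (41, (18, 64)), (46, (16, 66)), (47, (16, 66)), (48, (17, 65)), (49, (18, 64)), (56, (16, 66)), (57, (16, 66)), (58, (16, 66)), (59, (16, 66)), (60, (16, 66)), (61, (16, 66)), (62, (16, 66)), (63,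 (16, 66)), (64, (16, 66)), (65, (16, 66)), (66, (17, 65)), (67, (16, 66)), (68, (16, 66)), (69, (17, 65)), (70, (19, 63)), (71, (26, 60))] [((16, 66), (37, 65, 17)), ((17, 65), (34, 66, 16)), ((18, 64), (33, 66, 16)), ((19, 63), (31, 66, 16)), ((20, 62), (30, 66, 16)), ((21, 61), (30, 65, 17)), ((26, 60), (23, 66, 16)), ((27, 59), (22, 66, 16)), ((28, 58), (22, 65, 17)), ((29, 57), (22, 63, 19)), ((57, 29), (2, 66, 16)), ((58, 28), (1, 66, 16)), ((59, 27), (1, 65, 17)), ((60, 26), (1, 64, 18)), ((61, 21), (0, 66, 16)), ((62, 20), (0, 65, 17)), ((63, 19), (0, 64, 18)), ((64, 18), (0, 63, 19)), ((65, 17), (0, 62, 20)), ((66, 16), (0, 61, 21))] (16, 66) [((17, 65), (false, (34, 66, 16))), ((18, 64), (false, (33, 66, 16))), ((19, 63), (false, (31, 66, 16))), ((20, 62), (false, (30, 66, 16))), ((26, 60), (false, (23, 66, 16))), ((27, 59), (false, (22, 66, 16))), ((57, 29), (false, (2, 66, 16))), ((58, 28), (false, (1, 66,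 16))), ((61, 21), (false, (0, 66, 16))), ((66, 16), (true, (0, 0, 0))), ((21, 61), (false, (30, 65, 17))), ((28, 58), (false, (22, 65, 17))), ((59, 27), (false, (1, 65, 17))), ((62, 20), (false, (0, 65, 17))), ((65, 17), (true, (0, 0, 0))), ((60, 26), (false, (1, 64, 18))), ((63, 19), (false, (0, 64, 18))), ((64, 18), (true, (0, 0, 0))), ((29, 57), (false, (22, 63, 19)))] = true := by decide +kernel

theorem E6_u1 : okBase chevE6 E6.cert 1 [(1, (11, 63)), (2, (13, 61)), (3, (12, 62)), (4, (11, 63)), (5, (13, 61)), (6, (12, 62)), (7, (11, 63)), (11, (1, 71)), (12, (1, 71)), (13, (1, 71)), (14, (1, 71)), (15, (1, 71)), (16, (11, 63)), (17, (11, 63)), (18, (12, 62)), (26, (1, 71)), (27, (1, 71)), (28, (1, 71)), (29, (1, 71)), (30, (1, 71)), (31, (1, 71)), (32, (1, 71)), (33, (1, 71)), (34, (1, 71)), (35, (1, 71)), (36, (1, 71)), (37, (1, 71)), (38, (1, 71)), (42, (1, 71)), (46, (1, 71)), (47, (1, 71)), (48, (1, 71)),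 (49, (1, 71)), (50, (1, 71)), (51, (1, 71)), (52, (1, 71)), (53, (12, 62)), (54, (11, 63)), (55, (11, 63)), (56, (1, 71)), (57, (1, 71)), (61, (1, 71)), (62, (1, 71)), (63, (1, 71)), (64, (11, 63)), (65, (12, 62)), (66, (13, 61)), (67, (11, 63)), (68, (12, 62)), (69, (13, 61)), (71, (11, 63))] [((1, 71), (53, 63, 11)), ((11, 63), (18, 71, 1)), ((12, 62), (17, 71, 1)), ((13, 61), (16, 71, 1)), ((26, 52), (7, 71, 1)), ((27, 51), (6, 71, 1)), ((28, 50), (5, 71, 1)), ((30, 49), (4, 71, 1)), ((31, 48), (3, 71, 1)), ((32, 47), (2, 71, 1)), ((47, 32), (6, 63, 11)), ((48, 31), (5, 63, 11)), ((49, 30), (5, 62, 12)), ((50, 28), (3, 63, 11)), ((51, 27), (2, 63, 11)), ((52, 26), (2, 62, 12)), ((61, 13), (3, 52, 26)), ((62, 12), (2, 52, 26)), ((63, 11), (2, 51, 27)), ((71, 1), (2, 32, 47))] (1, 71) [((11, 63), (false, (18, 71, 1))), ((12, 62), (false, (17, 71, 1))), ((13, 61), (false, (16, 71, 1))), ((26, 52), (false, (7, 71, 1))),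 ((27, 51), (false, (6, 71, 1))), ((28, 50), (false, (5, 71, 1))), ((30, 49), (false, (4, 71, 1))), ((31, 48), (false, (3, 71, 1))), ((32, 47), (false, (2, 71, 1))), ((71, 1), (true, (0, 0, 0))), ((47, 32), (false, (6, 63, 11))), ((48, 31), (false, (5, 63, 11))), ((50, 28), (false, (3, 63, 11))), ((51, 27), (false, (2, 63, 11))), ((63, 11), (true, (0, 0, 0))), ((49, 30), (false, (5, 62, 12))), ((52, 26), (false, (2, 62, 12))), ((62, 12), (true, (0, 0, 0))), ((61, 13), (true, (0, 0, 0)))] = true := by decide +kernel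

theorem E6_u2 : okBase chevE6 E6.cert 2 [(0, (15, 57)), (1, (15, 57)), (5, (6, 68)), (6, (5, 69)), (7, (5, 69)), (8, (7, 67)), (9, (6, 68)), (10, (5, 69)), (11, (7, 67)), (12, (6, 68)), (13, (5, 69)), (15, (5, 69)), (16, (6, 68)), (17, (5, 69)), (18, (5, 69)), (22, (5, 69)), (23, (5, 69)), (24, (5, 69)), (25, (5, 69)), (30, (5, 69)), (31, (5, 69)), (32, (5, 69)), (33, (6, 68)), (34, (7, 67)), (35, (5, 69)), (36, (5, 69)), (37, (7, 67)), (38, (6, 68)), (42, (5, 69)), (43, (5, 69)), (44, (5, 69)), (45, (5, 69)), (46, (5, 69)), (50, (5, 69)), (51, (5, 69)), (52, (5, 69)), (53, (5, 69)), (54, (5, 69)), (55, (6, 68)), (57, (5, 69)), (58, (5, 69)), (59, (6, 68)), (60, (7, 67)), (61, (5, 69)), (62, (6, 68)), (63, (7, 67)), (67, (5, 69)), (68, (5, 69)), (69, (6, 68)), (70, (15, 57)), (71, (15, 57))] [((5, 69), (37, 68, 6)), ((6, 68), (34, 69, 5)), ((7, 67), (33, 69, 5)), ((15, 57), (16, 69, 5)), ((22, 52), (12, 69, 5)), ((23,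 51), (11, 69, 5)), ((24, 50), (11, 68, 6)), ((30, 45), (9, 69, 5)), ((31, 44), (8, 69, 5)), ((32, 43), (8, 68, 6)), ((43, 32), (1, 69, 5)), ((44, 31), (1, 68, 6)), ((45, 30), (1, 67, 7)), ((50, 24), (0, 69, 5)), ((51, 23), (0, 68, 6)), ((52, 22), (0, 67, 7)), ((57, 15), (8, 52, 22)), ((67, 7), (0, 52, 22)), ((68, 6), (0, 51, 23)), ((69, 5), (0, 50, 24))] (5, 69) [((6, 68), (false, (34, 69, 5))), ((7, 67), (false, (33, 69, 5))), ((15, 57), (false, (16, 69, 5))), ((22, 52), (false, (12, 69, 5))), ((23, 51), (false, (11, 69, 5))), ((30, 45), (false, (9, 69, 5))), ((31, 44), (false, (8, 69, 5))), ((43, 32), (false, (1, 69, 5))), ((50, 24), (false, (0, 69, 5))), ((69, 5), (true, (0, 0, 0))), ((24, 50), (false, (11, 68, 6))), ((32, 43), (false, (8, 68, 6))), ((44, 31), (false, (1, 68, 6))), ((51, 23), (false, (0, 68, 6))), ((68, 6), (true, (0, 0, 0))), ((45, 30), (false, (1, 67, 7))), ((52, 22), (false, (0, 67, 7))), ((67,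 7), (true, (0, 0, 0))), ((57, 15), (true, (0, 0, 0)))] = true := by decide +kernel

theorem E6_u3 : okBase chevE6 E6.cert 3 [(0, (14, 58)), (2, (8, 65)), (3, (9, 64)), (4, (8, 65)), (5, (14, 58)), (8, (2, 70)), (9, (2, 70)), (10, (2, 70)), (11, (9, 64)), (12, (8, 65)), (14, (2, 70)), (15, (2, 70)), (16, (8, 65)), (19, (2, 70)), (20, (2, 70)), (21, (2, 70)), (22, (2, 70)), (23, (2, 70)), (25, (2, 70)), (26, (8, 65)), (27, (9, 64)), (29, (2, 70)), (33, (2, 70)), (34, (2, 70)), (35, (2, 70)), (36, (2, 70)), (39, (2, 70)), (40, (2, 70)), (41, (2, 70)), (43, (2, 70)), (44, (9, 64)), (45, (8, 65)), (47, (2, 70)), (48, (2, 70)), (49, (2, 70)), (50, (2, 70)), (53, (2, 70)), (54, (2, 70)), (55, (8, 65)), (56, (2, 70)), (58, (2, 70)), (59, (8, 65)), (60, (9, 64)), (61, (2, 70)), (64, (2, 70)), (65, (2, 70)), (66, (14, 58)), (67, (8, 65)), (68, (9, 64)), (70, (8, 65)), (71, (14, 58))] [((2, 70), (44, 65, 8)), ((8, 65), (27, 70,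 2)), ((9, 64), (26, 70, 2)), ((14, 58), (16, 70, 2)), ((19, 54), (12, 70, 2)), ((20, 53), (11, 70, 2)), ((25, 47), (11, 65, 8)), ((29, 43), (5, 70, 2)), ((33, 41), (4, 70, 2)), ((34, 40), (3, 70, 2)), ((40, 34), (5, 65, 8)), ((41, 33), (5, 64, 9)), ((43, 29), (3, 65, 8)), ((47, 25), (0, 70, 2)), ((53, 20), (0, 65, 8)), ((54, 19), (0, 64, 9)), ((58, 14), (3, 54, 19)), ((64, 9), (0, 54, 19)), ((65, 8), (0, 53, 20)), ((70, 2), (0, 47, 25))] (2, 70) [((8, 65), (false, (27, 70, 2))), ((9, 64), (false, (26, 70, 2))), ((14, 58), (false, (16, 70, 2))), ((19, 54), (false, (12, 70, 2))), ((20, 53), (false, (11, 70, 2))), ((29, 43), (false, (5, 70, 2))), ((33, 41), (false, (4, 70, 2))), ((34, 40), (false, (3, 70, 2))), ((47, 25), (false, (0, 70, 2))), ((70, 2), (true, (0, 0, 0))), ((25, 47), (false, (11, 65, 8))), ((40, 34), (false, (5, 65, 8))), ((43, 29), (false, (3, 65, 8))), ((53, 20), (false, (0, 65, 8))), ((65, 8), (true,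 (0, 0, 0))), ((41, 33), (false, (5, 64, 9))), ((54, 19), (false, (0, 64, 9))), ((64, 9), (true, (0, 0, 0))), ((58, 14), (true, (0, 0, 0)))] = true := by decide +kernel

theorem E6_u4 : okBase chevE6 E6.cert 4 [(0, (13, 59)), (1, (10, 62)), (3, (6, 66)), (4, (6, 66)), (6, (3, 69)), (7, (3, 69)), (8, (13, 59)), (10, (3, 69)), (11, (10, 62)), (13, (3, 69)), (14, (6, 66)), (15, (3, 69)), (17, (3, 69)), (18, (3, 69)), (19, (6, 66)), (21, (3, 69)), (22, (3, 69)), (24, (3, 69)), (25, (3, 69)), (26, (6, 66)), (28, (3, 69)), (29, (10, 62)), (30, (3, 69)), (32, (3, 69)), (35, (3, 69)), (37, (3, 69)), (38, (3, 69)), (40, (3, 69)), (41, (3, 69)), (42, (10, 62)), (44, (3, 69)), (45, (6, 66)), (46, (3, 69)), (48, (3, 69)), (49, (3, 69)), (51, (3, 69)), (52, (6, 66)), (53, (3, 69)), (55, (3, 69)), (56, (3, 69)), (57, (6, 66)), (59, (3, 69)), (60, (10, 62)), (62, (3, 69)), (63, (13, 59)), (64, (3, 69)), (66, (3, 69)), (67, (6, 66)),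 (69, (6, 66)), (70, (10, 62)), (71, (13, 59))] [((3, 69), (42, 66, 6)), ((6, 66), (29, 69, 3)), ((10, 62), (26, 69, 3)), ((13, 59), (19, 69, 3)), ((17, 55), (14, 69, 3)), ((21, 51), (11, 69, 3)), ((24, 48), (11, 66, 6)), ((28, 44), (8, 69, 3)), ((32, 40), (8, 66, 6)), ((35, 38), (4, 69, 3)), ((38, 35), (8, 62, 10)), ((40, 32), (1, 69, 3)), ((44, 28), (1, 66, 6)), ((48, 24), (0, 69, 3)), ((51, 21), (0, 66, 6)), ((55, 17), (0, 62, 10)), ((59, 13), (1, 55, 17)), ((62, 10), (0, 55, 17)), ((66, 6), (0, 51, 21)), ((69, 3), (0, 48, 24))] (3, 69) [((6, 66), (false, (29, 69, 3))), ((10, 62), (false, (26, 69, 3))), ((13, 59), (false, (19, 69, 3))), ((17, 55), (false, (14, 69, 3))), ((21, 51), (false, (11, 69, 3))), ((28, 44), (false, (8, 69, 3))), ((35, 38), (false, (4, 69, 3))), ((40, 32), (false, (1, 69, 3))), ((48, 24), (false, (0, 69, 3))), ((69, 3), (true, (0, 0, 0))), ((24, 48), (false, (11, 66, 6))), ((32, 40), (false,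 (8, 66, 6))), ((44, 28), (false, (1, 66, 6))), ((51, 21), (false, (0, 66, 6))), ((66, 6), (true, (0, 0, 0))), ((38, 35), (false, (8, 62, 10))), ((55, 17), (false, (0, 62, 10))), ((62, 10), (true, (0, 0, 0))), ((59, 13), (true, (0, 0, 0)))] = true := by decide +kernel

theorem E6_u5 : okBase chevE6 E6.cert 5 [(0, (12, 60)), (1, (9, 63)), (2, (7, 65)), (4, (7, 65)), (5, (4, 68)), (7, (4, 68)), (9, (4, 68)), (10, (12, 60)), (12, (4, 68)), (13, (9, 63)), (14, (7, 65)), (15, (4, 68)), (16, (4, 68)), (18, (4, 68)), (20, (4, 68)), (21, (7, 65)), (23, (4, 68)), (24, (4, 68)), (25, (4, 68)), (27, (4, 68)), (28, (7, 65)), (29, (9, 63)), (31, (4, 68)), (32, (4, 68)), (34, (4, 68)), (36, (4, 68)), (38, (4, 68)), (39, (4, 68)), (41, (4, 68)), (42, (9, 63)), (43, (7, 65)), (45, (4, 68)), (46, (4, 68)), (47, (4, 68)), (49, (4, 68)), (50, (7, 65)), (52, (4, 68)), (54, (4, 68)), (55, (4, 68)), (56, (4, 68)), (57, (7, 65)), (58, (9,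 63)), (60, (4, 68)), (61, (12, 60)), (63, (4, 68)), (65, (4, 68)), (66, (4, 68)), (68, (7, 65)), (69, (7, 65)), (70, (9, 63)), (71, (12, 60))] [((4, 68), (42, 65, 7)), ((7, 65), (29, 68, 4)), ((9, 63), (28, 68, 4)), ((12, 60), (21, 68, 4)), ((18, 54), (14, 68, 4)), ((20, 52), (13, 68, 4)), ((23, 49), (13, 65, 7)), ((27, 45), (10, 68, 4)), ((31, 41), (10, 65, 7)), ((34, 38), (10, 63, 9)), ((38, 34), (2, 68, 4)), ((41, 31), (1, 68, 4)), ((45, 27), (1, 65, 7)), ((49, 23), (0, 68, 4)), ((52, 20), (0, 65, 7)), ((54, 18), (0, 63, 9)), ((60, 12), (1, 54, 18)), ((63, 9), (0, 54, 18)), ((65, 7), (0, 52, 20)), ((68, 4), (0, 49, 23))] (4, 68) [((7, 65), (false, (29, 68, 4))), ((9, 63), (false, (28, 68, 4))), ((12, 60), (false, (21, 68, 4))), ((18, 54), (false, (14, 68, 4))), ((20, 52), (false, (13, 68, 4))), ((27, 45), (false, (10, 68, 4))), ((38, 34), (false, (2, 68, 4))), ((41, 31), (false, (1, 68, 4))), ((49, 23), (false,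 (0, 68, 4))), ((68, 4), (true, (0, 0, 0))), ((23, 49), (false, (13, 65, 7))), ((31, 41), (false, (10, 65, 7))), ((45, 27), (false, (1, 65, 7))), ((52, 20), (false, (0, 65, 7))), ((65, 7), (true, (0, 0, 0))), ((34, 38), (false, (10, 63, 9))), ((54, 18), (false, (0, 63, 9))), ((63, 9), (true, (0, 0, 0))), ((60, 12), (true, (0, 0, 0)))] = true := by decide +kernel

theorem okU_E6 : OkU chevE6 E6.cert := by
  intro k hk
  have hk' : k < 6 := hk
  interval_cases k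
  · exact ⟨_, _, _, _, E6_u0⟩
  · exact ⟨_, _, _, _, E6_u1⟩
  · exact ⟨_, _, _, _, E6_u2⟩
  · exact ⟨_, _, _, _, E6_u3⟩
  · exact ⟨_, _, _, _, E6_u4⟩
  · exact ⟨_, _, _, _, E6_u5⟩

end Cfsg.Lib.Chev.Univ
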