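import Cfsg.Agent.Chev.Univ.Section

/-! Certificates. -/

set_option autoImplicit false
set_option Elab.async false
set_option maxHeartbeats 0
set_option maxRecDepth 20000

open Cfsg.Lie

namespace Cfsg.Lib.Chev.Univ

theorem E7_u0 : okBase chevE7 E7.cert 0 [(1, (33, 108)), (2, (39, 102)), (3, (36, 105)), (4, (34, 107)), (5, (33, 108)), (6, (33, 108)), (7, (36, 105)), (8, (34, 107)), (9, (33, 108)), (10, (33, 108)), (11, (34, 107)), (12, (33, 108)), (13, (33, 108)), (14, (33, 108)), (15, (33, 108)), (16, (34, 107)), (33, (1, 125)), (34, (1, 125)), (35, (1, 125)), (36, (1, 125)), (37, (1, 125)), (38, (1, 125)), (39, (1, 125)), (40, (1, 125)), (41, (1, 125)), (42, (1, 125)), (43, (1, 125)), (44, (1, 125)), (45, (1, 125)), (46, (1, 125)), (47, (1, 125)), (48, (1, 125)), (49, (1, 125)), (50, (1, 125)), (51, (1, 125)), (52, (1, 125)), (53, (1, 125)), (54, (1, 125)), (55, (1, 125)), (56, (1, 125)), (57, (1, 125)), (58, (1, 125)), (59, (1, 125)), (60, (1, 125)), (61, (1, 125)),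 (62, (1, 125)), (63, (1, 125)), (64, (1, 125)), (65, (1, 125)), (66, (1, 125)), (67, (1, 125)), (68, (1, 125)), (69, (1, 125)), (70, (1, 125)), (71, (1, 125)), (72, (1, 125)), (78, (1, 125)), (79, (1, 125)), (80, (1, 125)), (81, (1, 125)), (82, (1, 125)), (93, (1, 125)), (94, (1, 125)), (95, (1, 125)), (96, (1, 125)), (97, (1, 125)), (98, (1, 125)), (99, (1, 125)), (100, (1, 125)), (101, (1, 125)), (102, (1, 125)), (103, (1, 125)), (104, (1, 125)), (105, (1, 125)), (106, (1, 125)), (107, (1, 125)), (108, (1, 125)), (109, (34, 107)), (110, (33, 108)), (111, (33, 108)), (112, (33, 108)), (113, (33, 108)), (114, (34, 107)), (115, (33, 108)), (116, (33, 108)), (117, (34, 107)), (118, (36, 105)), (119, (33, 108)), (120, (33, 108)), (121, (34, 107)), (122, (36, 105)), (123, (39, 102)), (125, (33, 108))] [((1, 125), (109, 108, 33)), ((33, 108), (16, 125, 1)), ((34, 107), (15, 125, 1)), ((35, 106), (14, 125, 1)), ((36, 105), (13, 125, 1)), ((37, 104), (12, 125, 1)), ((38, 103),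 (11, 125, 1)), ((39, 102), (10, 125, 1)), ((40, 101), (9, 125, 1)), ((41, 100), (8, 125, 1)), ((42, 99), (7, 125, 1)), ((48, 98), (6, 125, 1)), ((49, 97), (5, 125, 1)), ((50, 96), (4, 125, 1)), ((51, 95), (3, 125, 1)), ((52, 94), (2, 125, 1)), ((94, 52), (11, 108, 33)), ((95, 51), (8, 108, 33)), ((96, 50), (7, 108, 33)), ((97, 49), (7, 107, 34)), ((98, 48), (7, 106, 35)), ((99, 42), (4, 108, 33)), ((100, 41), (3, 108, 33)), ((101, 40), (3, 107, 34)), ((102, 39), (3, 106, 35)), ((103, 38), (2, 108, 33)), ((104, 37), (2, 107, 34)), ((105, 36), (2, 106, 35)), ((106, 35), (2, 105, 36)), ((107, 34), (2, 104, 37)), ((108, 33), (2, 103, 38)), ((125, 1), (2, 52, 94))] (1, 125) [((33, 108), (false, (16, 125, 1))), ((34, 107), (false, (15, 125, 1))), ((35, 106), (false, (14, 125, 1))), ((36, 105), (false, (13, 125, 1))), ((37, 104), (false, (12, 125, 1))), ((38, 103), (false, (11, 125, 1))), ((39, 102), (false, (10, 125, 1))), ((40, 101), (false, (9, 125, 1))), ((41, 100), (false,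 (8, 125, 1))), ((42, 99), (false, (7, 125, 1))), ((48, 98), (false, (6, 125, 1))), ((49, 97), (false, (5, 125, 1))), ((50, 96), (false, (4, 125, 1))), ((51, 95), (false, (3, 125, 1))), ((52, 94), (false, (2, 125, 1))), ((125, 1), (true, (0, 0, 0))), ((94, 52), (false, (11, 108, 33))), ((95, 51), (false, (8, 108, 33))), ((96, 50), (false, (7, 108, 33))), ((99, 42), (false, (4, 108, 33))), ((100, 41), (false, (3, 108, 33))), ((103, 38), (false, (2, 108, 33))), ((108, 33), (true, (0, 0, 0))), ((97, 49), (false, (7, 107, 34))), ((101, 40), (false, (3, 107, 34))), ((104, 37), (false, (2, 107, 34))), ((107, 34), (true, (0, 0, 0))), ((98, 48), (false, (7, 106, 35))), ((102, 39), (false, (3, 106, 35))), ((105, 36), (false, (2, 106, 35))), ((106, 35), (true, (0, 0, 0)))] = true := by decide +kernel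

theorem E7_u1 : okBase chevE7 E7.cert 1 [(0, (48, 86)), (1, (27, 102)), (2, (27, 102)), (7, (8, 121)), (8, (7, 122)), (9, (7, 122)), (10, (7, 122)), (11, (9, 120)), (12, (8, 121)), (13, (8, 121)), (14, (7, 122)), (15, (7, 122)), (16, (7, 122)), (17, (9, 120)), (18, (8, 121)), (19, (8, 121)), (20, (7, 122)), (21, (7, 122)), (22, (7, 122)), (27, (7, 122)), (28, (7, 122)), (29, (7, 122)), (30, (7, 122)), (31, (7, 122)), (32, (7, 122)), (33, (9, 120)), (34, (8, 121)), (35, (8, 121)), (36, (7, 122)), (37, (7, 122)), (38, (7, 122)), (48, (7, 122)), (49, (7, 122)), (50, (7, 122)), (51, (7, 122)), (52, (7, 122)), (53, (7, 122)), (54, (7, 122)), (55, (7, 122)), (56, (7, 122)), (57, (8, 121)), (58, (8, 121)), (59, (9, 120)), (60, (7, 122)), (61, (7, 122)), (62, (7, 122)), (63, (7, 122)), (64, (7, 122)), (65, (7, 122)), (66, (9, 120)), (67, (8, 121)), (68, (8, 121)), (73, (7, 122)), (78, (7, 122)), (79, (7, 122)), (80, (7, 122)), (81, (7, 122)), (82, (7, 122)), (83, (7, 122)), (84,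 (7, 122)), (85, (7, 122)), (86, (7, 122)), (87, (7, 122)), (88, (7, 122)), (89, (7, 122)), (90, (8, 121)), (91, (8, 121)), (92, (9, 120)), (93, (7, 122)), (94, (7, 122)), (99, (7, 122)), (100, (7, 122)), (101, (7, 122)), (102, (7, 122)), (103, (7, 122)), (104, (7, 122)), (105, (7, 122)), (106, (8, 121)), (107, (8, 121)), (108, (9, 120)), (109, (7, 122)), (110, (7, 122)), (111, (7, 122)), (112, (8, 121)), (113, (8, 121)), (114, (9, 120)), (119, (7, 122)), (120, (7, 122)), (121, (7, 122)), (122, (8, 121)), (123, (27, 102)), (124, (27, 102)), (125, (48, 86))] [((7, 122), (66, 121, 8)), ((8, 121), (59, 122, 7)), ((9, 120), (58, 122, 7)), ((10, 119), (57, 122, 7)), ((27, 102), (35, 122, 7)), ((28, 101), (34, 122, 7)), ((29, 100), (33, 122, 7)), ((30, 99), (33, 121, 8)), ((48, 86), (19, 122, 7)), ((49, 85), (18, 122, 7)), ((50, 84), (17, 122, 7)), ((51, 83), (17, 121, 8)), ((53, 82), (13, 122, 7)), ((54, 81), (12, 122, 7)), ((55, 80), (11, 122, 7)), ((56, 79), (11, 121, 8)), ((79,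 56), (2, 122, 7)), ((80, 55), (2, 121, 8)), ((81, 54), (2, 120, 9)), ((82, 53), (2, 119, 10)), ((83, 51), (1, 122, 7)), ((84, 50), (1, 121, 8)), ((85, 49), (1, 120, 9)), ((86, 48), (1, 119, 10)), ((99, 30), (0, 122, 7)), ((100, 29), (0, 121, 8)), ((101, 28), (0, 120, 9)), ((102, 27), (0, 119, 10)), ((119, 10), (0, 102, 27)), ((120, 9), (0, 101, 28)), ((121, 8), (0, 100, 29)), ((122, 7), (0, 99, 30))] (7, 122) [((8, 121), (false, (59, 122, 7))), ((9, 120), (false, (58, 122, 7))), ((10, 119), (false, (57, 122, 7))), ((27, 102), (false, (35, 122, 7))), ((28, 101), (false, (34, 122, 7))), ((29, 100), (false, (33, 122, 7))), ((48, 86), (false, (19, 122, 7))), ((49, 85), (false, (18, 122, 7))), ((50, 84), (false, (17, 122, 7))), ((53, 82), (false, (13, 122, 7))), ((54, 81), (false, (12, 122, 7))), ((55, 80), (false, (11, 122, 7))), ((79, 56), (false, (2, 122, 7))), ((83, 51), (false, (1, 122, 7))), ((99, 30), (false, (0, 122, 7))), ((122, 7), (true, (0, 0, 0))), ((30, 99), (false,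 (33, 121, 8))), ((51, 83), (false, (17, 121, 8))), ((56, 79), (false, (11, 121, 8))), ((80, 55), (false, (2, 121, 8))), ((84, 50), (false, (1, 121, 8))), ((100, 29), (false, (0, 121, 8))), ((121, 8), (true, (0, 0, 0))), ((81, 54), (false, (2, 120, 9))), ((85, 49), (false, (1, 120, 9))), ((101, 28), (false, (0, 120, 9))), ((120, 9), (true, (0, 0, 0))), ((82, 53), (false, (2, 119, 10))), ((86, 48), (false, (1, 119, 10))), ((102, 27), (false, (0, 119, 10))), ((119, 10), (true, (0, 0, 0)))] = true := by decide +kernel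

theorem E7_u2 : okBase chevE7 E7.cert 2 [(0, (43, 86)), (2, (17, 114)), (3, (20, 111)), (4, (18, 113)), (5, (17, 114)), (6, (17, 114)), (7, (20, 111)), (8, (18, 113)), (9, (17, 114)), (10, (17, 114)), (17, (2, 124)), (18, (2, 124)), (19, (2, 124)), (20, (2, 124)), (21, (2, 124)), (22, (2, 124)), (23, (2, 124)), (24, (2, 124)), (25, (2, 124)), (26, (2, 124)), (27, (2, 124)), (28, (2, 124)), (29, (2, 124)), (30, (2, 124)), (32, (2, 124)), (33, (18, 113)), (34, (17, 114)), (35, (17, 114)), (36, (17, 114)), (37, (17, 114)), (38, (18, 113)), (43, (2, 124)), (44, (2, 124)), (45, (2, 124)), (46, (2, 124)), (47, (2, 124)), (53, (2, 124)), (54, (2, 124)), (55, (2, 124)), (56, (2, 124)), (57, (2, 124)), (58, (2, 124)), (59, (2, 124)), (60, (2, 124)), (61, (2, 124)), (62, (2, 124)), (63, (2, 124)), (64, (2, 124)), (65, (2, 124)), (66, (2, 124)), (67, (2, 124)), (68, (2, 124)), (73, (2, 124)), (74, (2, 124)), (75, (2, 124)), (76, (2, 124)), (77, (2, 124)), (78, (2, 124)), (83, (2,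 124)), (84, (2, 124)), (85, (2, 124)), (86, (2, 124)), (87, (18, 113)), (88, (17, 114)), (89, (17, 114)), (90, (17, 114)), (91, (17, 114)), (92, (18, 113)), (94, (2, 124)), (95, (2, 124)), (96, (2, 124)), (97, (2, 124)), (98, (2, 124)), (99, (2, 124)), (100, (2, 124)), (101, (2, 124)), (102, (2, 124)), (109, (2, 124)), (110, (2, 124)), (111, (2, 124)), (112, (2, 124)), (113, (2, 124)), (114, (2, 124)), (115, (17, 114)), (116, (17, 114)), (117, (18, 113)), (118, (20, 111)), (119, (17, 114)), (120, (17, 114)), (121, (18, 113)), (122, (20, 111)), (124, (17, 114)), (125, (43, 86))] [((2, 124), (87, 114, 17)), ((17, 114), (38, 124, 2)), ((18, 113), (37, 124, 2)), ((19, 112), (36, 124, 2)), ((20, 111), (35, 124, 2)), ((21, 110), (34, 124, 2)), ((22, 109), (33, 124, 2)), ((32, 94), (33, 114, 17)), ((43, 86), (10, 124, 2)), ((44, 85), (9, 124, 2)), ((45, 84), (8, 124, 2)), ((46, 83), (7, 124, 2)), ((53, 77), (6, 124, 2)), ((54, 76), (5, 124, 2)), ((55, 75), (4, 124, 2)), ((56, 74),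 (3, 124, 2)), ((74, 56), (8, 114, 17)), ((75, 55), (7, 114, 17)), ((76, 54), (7, 113, 18)), ((77, 53), (7, 112, 19)), ((83, 46), (4, 114, 17)), ((84, 45), (3, 114, 17)), ((85, 44), (3, 113, 18)), ((86, 43), (3, 112, 19)), ((94, 32), (0, 124, 2)), ((109, 22), (0, 114, 17)), ((110, 21), (0, 113, 18)), ((111, 20), (0, 112, 19)), ((112, 19), (0, 111, 20)), ((113, 18), (0, 110, 21)), ((114, 17), (0, 109, 22)), ((124, 2), (0, 94, 32))] (2, 124) [((17, 114), (false, (38, 124, 2))), ((18, 113), (false, (37, 124, 2))), ((19, 112), (false, (36, 124, 2))), ((20, 111), (false, (35, 124, 2))), ((21, 110), (false, (34, 124, 2))), ((22, 109), (false, (33, 124, 2))), ((43, 86), (false, (10, 124, 2))), ((44, 85), (false, (9, 124, 2))), ((45, 84), (false, (8, 124, 2))), ((46, 83), (false, (7, 124, 2))), ((53, 77), (false, (6, 124, 2))), ((54, 76), (false, (5, 124, 2))), ((55, 75), (false, (4, 124, 2))), ((56, 74), (false, (3, 124, 2))), ((94, 32), (false, (0, 124, 2))), ((124, 2), (true,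 (0, 0, 0))), ((32, 94), (false, (33, 114, 17))), ((74, 56), (false, (8, 114, 17))), ((75, 55), (false, (7, 114, 17))), ((83, 46), (false, (4, 114, 17))), ((84, 45), (false, (3, 114, 17))), ((109, 22), (false, (0, 114, 17))), ((114, 17), (true, (0, 0, 0))), ((76, 54), (false, (7, 113, 18))), ((85, 44), (false, (3, 113, 18))), ((110, 21), (false, (0, 113, 18))), ((113, 18), (true, (0, 0, 0))), ((77, 53), (false, (7, 112, 19))), ((86, 43), (false, (3, 112, 19))), ((111, 20), (false, (0, 112, 19))), ((112, 19), (true, (0, 0, 0)))] = true := by decide +kernel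

theorem E7_u3 : okBase chevE7 E7.cert 3 [(0, (39, 89)), (1, (23, 105)), (3, (11, 117)), (4, (12, 116)), (5, (11, 117)), (6, (11, 117)), (7, (23, 105)), (11, (3, 123)), (12, (3, 123)), (13, (3, 123)), (14, (3, 123)), (15, (3, 123)), (16, (3, 123)), (17, (12, 116)), (18, (11, 117)), (19, (11, 117)), (23, (3, 123)), (24, (3, 123)), (25, (3, 123)), (26, (3, 123)), (27, (3, 123)), (28, (3, 123)), (29, (3, 123)), (31, (3, 123)), (32, (3, 123)), (33, (12, 116)), (34, (11, 117)), (35, (11, 117)), (39, (3, 123)), (40, (3, 123)), (41, (3, 123)), (42, (3, 123)), (43, (11, 117)), (44, (11, 117)), (45, (12, 116)), (47, (3, 123)), (48, (3, 123)), (49, (3, 123)), (50, (3, 123)), (52, (3, 123)), (57, (3, 123)), (58, (3, 123)), (59, (3, 123)), (60, (3, 123)), (61, (3, 123)), (62, (3, 123)), (63, (3, 123)), (64, (3, 123)), (65, (3, 123)), (69, (3, 123)), (70, (3, 123)), (71, (3, 123)), (72, (3, 123)), (74, (3, 123)), (75, (3, 123)), (76, (3, 123)), (77, (3, 123)), (79, (3, 123)), (80, (12,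 116)), (81, (11, 117)), (82, (11, 117)), (83, (3, 123)), (87, (3, 123)), (88, (3, 123)), (89, (3, 123)), (90, (11, 117)), (91, (11, 117)), (92, (12, 116)), (93, (3, 123)), (95, (3, 123)), (96, (3, 123)), (97, (3, 123)), (98, (3, 123)), (99, (3, 123)), (103, (3, 123)), (104, (3, 123)), (105, (3, 123)), (106, (11, 117)), (107, (11, 117)), (108, (12, 116)), (109, (3, 123)), (110, (3, 123)), (111, (3, 123)), (115, (3, 123)), (116, (3, 123)), (117, (3, 123)), (118, (23, 105)), (119, (11, 117)), (120, (11, 117)), (121, (12, 116)), (123, (11, 117)), (124, (23, 105)), (125, (39, 89))] [((3, 123), (80, 117, 11)), ((11, 117), (45, 123, 3)), ((12, 116), (44, 123, 3)), ((13, 115), (43, 123, 3)), ((23, 105), (35, 123, 3)), ((24, 104), (34, 123, 3)), ((25, 103), (33, 123, 3)), ((31, 95), (33, 117, 11)), ((39, 89), (19, 123, 3)), ((40, 88), (18, 123, 3)), ((41, 87), (17, 123, 3)), ((47, 79), (7, 123, 3)), ((52, 74), (17, 117, 11)), ((57, 72), (6, 123, 3)), ((58, 71), (5, 123, 3)), ((59,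 70), (4, 123, 3)), ((70, 59), (7, 117, 11)), ((71, 58), (7, 116, 12)), ((72, 57), (7, 115, 13)), ((74, 52), (1, 123, 3)), ((79, 47), (4, 117, 11)), ((87, 41), (1, 117, 11)), ((88, 40), (1, 116, 12)), ((89, 39), (1, 115, 13)), ((95, 31), (0, 123, 3)), ((103, 25), (0, 117, 11)), ((104, 24), (0, 116, 12)), ((105, 23), (0, 115, 13)), ((115, 13), (0, 105, 23)), ((116, 12), (0, 104, 24)), ((117, 11), (0, 103, 25)), ((123, 3), (0, 95, 31))] (3, 123) [((11, 117), (false, (45, 123, 3))), ((12, 116), (false, (44, 123, 3))), ((13, 115), (false, (43, 123, 3))), ((23, 105), (false, (35, 123, 3))), ((24, 104), (false, (34, 123, 3))), ((25, 103), (false, (33, 123, 3))), ((39, 89), (false, (19, 123, 3))), ((40, 88), (false, (18, 123, 3))), ((41, 87), (false, (17, 123, 3))), ((47, 79), (false, (7, 123, 3))), ((57, 72), (false, (6, 123, 3))), ((58, 71), (false, (5, 123, 3))), ((59, 70), (false, (4, 123, 3))), ((74, 52), (false, (1, 123, 3))), ((95, 31), (false, (0, 123, 3))), ((123, 3), (true,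 (0, 0, 0))), ((31, 95), (false, (33, 117, 11))), ((52, 74), (false, (17, 117, 11))), ((70, 59), (false, (7, 117, 11))), ((79, 47), (false, (4, 117, 11))), ((87, 41), (false, (1, 117, 11))), ((103, 25), (false, (0, 117, 11))), ((117, 11), (true, (0, 0, 0))), ((71, 58), (false, (7, 116, 12))), ((88, 40), (false, (1, 116, 12))), ((104, 24), (false, (0, 116, 12))), ((116, 12), (true, (0, 0, 0))), ((72, 57), (false, (7, 115, 13))), ((89, 39), (false, (1, 115, 13))), ((105, 23), (false, (0, 115, 13))), ((115, 13), (true, (0, 0, 0)))] = true := by decide +kernel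

theorem E7_u4 : okBase chevE7 E7.cert 4 [(0, (36, 91)), (1, (20, 107)), (2, (14, 113)), (4, (8, 118)), (5, (8, 118)), (6, (8, 118)), (8, (4, 122)), (9, (4, 122)), (10, (4, 122)), (11, (20, 107)), (14, (4, 122)), (15, (4, 122)), (16, (4, 122)), (17, (14, 113)), (20, (4, 122)), (21, (4, 122)), (22, (4, 122)), (23, (8, 118)), (24, (8, 118)), (26, (4, 122)), (27, (4, 122)), (28, (4, 122)), (30, (4, 122)), (31, (4, 122)), (32, (4, 122)), (33, (14, 113)), (36, (4, 122)), (37, (4, 122)), (38, (4, 122)), (39, (8, 118)), (40, (8, 118)), (42, (4, 122)), (43, (8, 118)), (44, (8, 118)), (46, (4, 122)), (47, (14, 113)), (48, (4, 122)), (49, (4, 122)), (51, (4, 122)), (52, (4, 122)), (53, (4, 122)), (54, (4, 122)), (56, (4, 122)), (60, (4, 122)), (61, (4, 122)), (62, (4, 122)), (63, (4, 122)), (66, (4, 122)), (67, (4, 122)), (68, (4, 122)), (70, (4, 122)), (71, (4, 122)), (72, (4, 122)), (73, (4, 122)), (75, (4, 122)), (76, (4, 122)), (77, (4, 122)), (78, (14, 113)), (80, (4, 122)),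 (81, (8, 118)), (82, (8, 118)), (84, (4, 122)), (85, (8, 118)), (86, (8, 118)), (87, (4, 122)), (90, (4, 122)), (91, (4, 122)), (92, (14, 113)), (93, (4, 122)), (94, (4, 122)), (96, (4, 122)), (97, (4, 122)), (98, (4, 122)), (100, (4, 122)), (101, (8, 118)), (102, (8, 118)), (103, (4, 122)), (106, (4, 122)), (107, (4, 122)), (108, (14, 113)), (109, (4, 122)), (112, (4, 122)), (113, (4, 122)), (114, (20, 107)), (115, (4, 122)), (116, (4, 122)), (118, (4, 122)), (119, (8, 118)), (120, (8, 118)), (122, (8, 118)), (123, (14, 113)), (124, (20, 107)), (125, (36, 91))] [((4, 122), (78, 118, 8)), ((8, 118), (47, 122, 4)), ((14, 113), (44, 122, 4)), ((15, 112), (43, 122, 4)), ((20, 107), (40, 122, 4)), ((21, 106), (39, 122, 4)), ((26, 100), (33, 122, 4)), ((30, 96), (33, 118, 8)), ((36, 91), (24, 122, 4)), ((37, 90), (23, 122, 4)), ((42, 84), (17, 122, 4)), ((46, 80), (11, 122, 4)), ((51, 75), (17, 118, 8)), ((56, 70), (11, 118, 8)), ((60, 68), (6, 122, 4)), ((61, 67), (5, 122, 4)),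 ((67, 61), (11, 113, 14)), ((68, 60), (11, 112, 15)), ((70, 56), (2, 122, 4)), ((75, 51), (1, 122, 4)), ((80, 46), (2, 118, 8)), ((84, 42), (1, 118, 8)), ((90, 37), (1, 113, 14)), ((91, 36), (1, 112, 15)), ((96, 30), (0, 122, 4)), ((100, 26), (0, 118, 8)), ((106, 21), (0, 113, 14)), ((107, 20), (0, 112, 15)), ((112, 15), (0, 107, 20)), ((113, 14), (0, 106, 21)), ((118, 8), (0, 100, 26)), ((122, 4), (0, 96, 30))] (4, 122) [((8, 118), (false, (47, 122, 4))), ((14, 113), (false, (44, 122, 4))), ((15, 112), (false, (43, 122, 4))), ((20, 107), (false, (40, 122, 4))), ((21, 106), (false, (39, 122, 4))), ((26, 100), (false, (33, 122, 4))), ((36, 91), (false, (24, 122, 4))), ((37, 90), (false, (23, 122, 4))), ((42, 84), (false, (17, 122, 4))), ((46, 80), (false, (11, 122, 4))), ((60, 68), (false, (6, 122, 4))), ((61, 67), (false, (5, 122, 4))), ((70, 56), (false, (2, 122, 4))), ((75, 51), (false, (1, 122, 4))), ((96, 30), (false, (0, 122, 4))), ((122, 4), (true, (0, 0, 0))), ((30,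 96), (false, (33, 118, 8))), ((51, 75), (false, (17, 118, 8))), ((56, 70), (false, (11, 118, 8))), ((80, 46), (false, (2, 118, 8))), ((84, 42), (false, (1, 118, 8))), ((100, 26), (false, (0, 118, 8))), ((118, 8), (true, (0, 0, 0))), ((67, 61), (false, (11, 113, 14))), ((90, 37), (false, (1, 113, 14))), ((106, 21), (false, (0, 113, 14))), ((113, 14), (true, (0, 0, 0))), ((68, 60), (false, (11, 112, 15))), ((91, 36), (false, (1, 112, 15))), ((107, 20), (false, (0, 112, 15))), ((112, 15), (true, (0, 0, 0)))] = true := by decide +kernel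

theorem E7_u5 : okBase chevE7 E7.cert 5 [(0, (34, 92)), (1, (18, 108)), (2, (12, 114)), (3, (9, 117)), (5, (9, 117)), (6, (9, 117)), (7, (5, 121)), (9, (5, 121)), (10, (5, 121)), (12, (5, 121)), (13, (5, 121)), (14, (18, 108)), (16, (5, 121)), (18, (5, 121)), (19, (5, 121)), (20, (12, 114)), (22, (5, 121)), (23, (9, 117)), (25, (5, 121)), (26, (9, 117)), (27, (5, 121)), (29, (5, 121)), (30, (5, 121)), (31, (5, 121)), (32, (5, 121)), (34, (5, 121)), (35, (5, 121)), (36, (12, 114)), (38, (5, 121)), (39, (9, 117)), (41, (5, 121)), (42, (9, 117)), (43, (9, 117)), (45, (5, 121)), (46, (9, 117)), (47, (12, 114)), (48, (5, 121)), (50, (5, 121)), (51, (5, 121)), (52, (5, 121)), (53, (5, 121)), (55, (5, 121)), (56, (5, 121)), (57, (5, 121)), (59, (5, 121)), (62, (5, 121)), (64, (5, 121)), (65, (5, 121)), (67, (5, 121)), (68, (5, 121)), (69, (5, 121)), (71, (5, 121)), (72, (5, 121)), (73, (5, 121)), (74, (5, 121)), (76, (5, 121)), (77, (5, 121)), (78, (12, 114)), (79, (9, 117)),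 (81, (5, 121)), (82, (9, 117)), (83, (9, 117)), (85, (5, 121)), (86, (9, 117)), (88, (5, 121)), (89, (12, 114)), (90, (5, 121)), (92, (5, 121)), (93, (5, 121)), (94, (5, 121)), (95, (5, 121)), (97, (5, 121)), (98, (5, 121)), (99, (9, 117)), (101, (5, 121)), (102, (9, 117)), (104, (5, 121)), (105, (12, 114)), (106, (5, 121)), (108, (5, 121)), (110, (5, 121)), (111, (18, 108)), (112, (5, 121)), (114, (5, 121)), (115, (5, 121)), (117, (5, 121)), (118, (5, 121)), (119, (9, 117)), (121, (9, 117)), (122, (9, 117)), (123, (12, 114)), (124, (18, 108)), (125, (34, 92))] [((5, 121), (78, 117, 9)), ((9, 117), (47, 121, 5)), ((12, 114), (46, 121, 5)), ((16, 110), (43, 121, 5)), ((18, 108), (42, 121, 5)), ((22, 104), (39, 121, 5)), ((25, 101), (36, 121, 5)), ((29, 97), (36, 117, 9)), ((34, 92), (26, 121, 5)), ((38, 88), (23, 121, 5)), ((41, 85), (20, 121, 5)), ((45, 81), (14, 121, 5)), ((50, 76), (20, 117, 9)), ((55, 71), (14, 117, 9)), ((59, 67), (14, 114, 12)), ((62, 65), (6, 121,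 5)), ((65, 62), (14, 110, 16)), ((67, 59), (3, 121, 5)), ((71, 55), (2, 121, 5)), ((76, 50), (1, 121, 5)), ((81, 45), (2, 117, 9)), ((85, 41), (1, 117, 9)), ((88, 38), (1, 114, 12)), ((92, 34), (1, 110, 16)), ((97, 29), (0, 121, 5)), ((101, 25), (0, 117, 9)), ((104, 22), (0, 114, 12)), ((108, 18), (0, 110, 16)), ((110, 16), (0, 108, 18)), ((114, 12), (0, 104, 22)), ((117, 9), (0, 101, 25)), ((121, 5), (0, 97, 29))] (5, 121) [((9, 117), (false, (47, 121, 5))), ((12, 114), (false, (46, 121, 5))), ((16, 110), (false, (43, 121, 5))), ((18, 108), (false, (42, 121, 5))), ((22, 104), (false, (39, 121, 5))), ((25, 101), (false, (36, 121, 5))), ((34, 92), (false, (26, 121, 5))), ((38, 88), (false, (23, 121, 5))), ((41, 85), (false, (20, 121, 5))), ((45, 81), (false, (14, 121, 5))), ((62, 65), (false, (6, 121, 5))), ((67, 59), (false, (3, 121, 5))), ((71, 55), (false, (2, 121, 5))), ((76, 50), (false, (1, 121, 5))), ((97, 29), (false, (0, 121, 5))), ((121, 5), (true, (0, 0, 0))),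 ((29, 97), (false, (36, 117, 9))), ((50, 76), (false, (20, 117, 9))), ((55, 71), (false, (14, 117, 9))), ((81, 45), (false, (2, 117, 9))), ((85, 41), (false, (1, 117, 9))), ((101, 25), (false, (0, 117, 9))), ((117, 9), (true, (0, 0, 0))), ((59, 67), (false, (14, 114, 12))), ((88, 38), (false, (1, 114, 12))), ((104, 22), (false, (0, 114, 12))), ((114, 12), (true, (0, 0, 0))), ((65, 62), (false, (14, 110, 16))), ((92, 34), (false, (1, 110, 16))), ((108, 18), (false, (0, 110, 16))), ((110, 16), (true, (0, 0, 0)))] = true := by decide +kernel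

theorem E7_u6 : okBase chevE7 E7.cert 6 [(0, (35, 91)), (1, (19, 107)), (2, (13, 113)), (3, (10, 116)), (4, (10, 116)), (6, (10, 116)), (7, (6, 120)), (8, (6, 120)), (10, (6, 120)), (11, (6, 120)), (13, (6, 120)), (15, (6, 120)), (16, (19, 107)), (17, (6, 120)), (19, (6, 120)), (21, (6, 120)), (22, (13, 113)), (24, (6, 120)), (25, (10, 116)), (26, (10, 116)), (28, (6, 120)), (29, (6, 120)), (30, (6, 120)), (31, (6, 120)), (32, (6, 120)), (33, (6, 120)), (35, (6, 120)), (37, (6, 120)), (38, (13, 113)), (40, (6, 120)), (41, (10, 116)), (42, (10, 116)), (44, (6, 120)), (45, (10, 116)), (46, (10, 116)), (47, (13, 113)), (49, (6, 120)), (50, (6, 120)), (51, (6, 120)), (52, (6, 120)), (54, (6, 120)), (55, (6, 120)), (56, (6, 120)), (58, (6, 120)), (59, (6, 120)), (61, (6, 120)), (63, (6, 120)), (65, (6, 120)), (66, (6, 120)), (68, (6, 120)), (69, (6, 120)), (70, (6, 120)), (72, (6, 120)), (73, (6, 120)), (74, (6, 120)), (75, (6, 120)), (77, (6, 120)), (78, (13, 113)), (79, (10,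 116)), (80, (10, 116)), (82, (6, 120)), (83, (10, 116)), (84, (10, 116)), (86, (6, 120)), (87, (13, 113)), (89, (6, 120)), (91, (6, 120)), (92, (6, 120)), (93, (6, 120)), (94, (6, 120)), (95, (6, 120)), (96, (6, 120)), (98, (6, 120)), (99, (10, 116)), (100, (10, 116)), (102, (6, 120)), (103, (13, 113)), (105, (6, 120)), (107, (6, 120)), (108, (6, 120)), (109, (19, 107)), (111, (6, 120)), (113, (6, 120)), (114, (6, 120)), (116, (6, 120)), (117, (6, 120)), (118, (6, 120)), (120, (10, 116)), (121, (10, 116)), (122, (10, 116)), (123, (13, 113)), (124, (19, 107)), (125, (35, 91))] [((6, 120), (78, 116, 10)), ((10, 116), (47, 120, 6)), ((13, 113), (46, 120, 6)), ((15, 111), (45, 120, 6)), ((19, 107), (42, 120, 6)), ((21, 105), (41, 120, 6)), ((24, 102), (38, 120, 6)), ((28, 98), (38, 116, 10)), ((35, 91), (26, 120, 6)), ((37, 89), (25, 120, 6)), ((40, 86), (22, 120, 6)), ((44, 82), (16, 120, 6)), ((49, 77), (22, 116, 10)), ((54, 72), (16, 116, 10)), ((58, 68), (16, 113, 13)),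 ((61, 65), (16, 111, 15)), ((65, 61), (4, 120, 6)), ((68, 58), (3, 120, 6)), ((72, 54), (2, 120, 6)), ((77, 49), (1, 120, 6)), ((82, 44), (2, 116, 10)), ((86, 40), (1, 116, 10)), ((89, 37), (1, 113, 13)), ((91, 35), (1, 111, 15)), ((98, 28), (0, 120, 6)), ((102, 24), (0, 116, 10)), ((105, 21), (0, 113, 13)), ((107, 19), (0, 111, 15)), ((111, 15), (0, 107, 19)), ((113, 13), (0, 105, 21)), ((116, 10), (0, 102, 24)), ((120, 6), (0, 98, 28))] (6, 120) [((10, 116), (false, (47, 120, 6))), ((13, 113), (false, (46, 120, 6))), ((15, 111), (false, (45, 120, 6))), ((19, 107), (false, (42, 120, 6))), ((21, 105), (false, (41, 120, 6))), ((24, 102), (false, (38, 120, 6))), ((35, 91), (false, (26, 120, 6))), ((37, 89), (false, (25, 120, 6))), ((40, 86), (false, (22, 120, 6))), ((44, 82), (false, (16, 120, 6))), ((65, 61), (false, (4, 120, 6))), ((68, 58), (false, (3, 120, 6))), ((72, 54), (false, (2, 120, 6))), ((77, 49), (false, (1, 120, 6))), ((98, 28), (false, (0, 120, 6))), ((120,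 6), (true, (0, 0, 0))), ((28, 98), (false, (38, 116, 10))), ((49, 77), (false, (22, 116, 10))), ((54, 72), (false, (16, 116, 10))), ((82, 44), (false, (2, 116, 10))), ((86, 40), (false, (1, 116, 10))), ((102, 24), (false, (0, 116, 10))), ((116, 10), (true, (0, 0, 0))), ((58, 68), (false, (16, 113, 13))), ((89, 37), (false, (1, 113, 13))), ((105, 21), (false, (0, 113, 13))), ((113, 13), (true, (0, 0, 0))), ((61, 65), (false, (16, 111, 15))), ((91, 35), (false, (1, 111, 15))), ((107, 19), (false, (0, 111, 15))), ((111, 15), (true, (0, 0, 0)))] = true := by decide +kernel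

theorem okU_E7 : OkU chevE7 E7.cert := by
  intro k hk
  have hk' : k < 7 := hk
  interval_cases k
  · exact ⟨_, _, _, _, E7_u0⟩
  · exact ⟨_, _, _, _, E7_u1⟩
  · exact ⟨_, _, _, _, E7_u2⟩
  · exact ⟨_, _, _, _, E7_u3⟩
  · exact ⟨_, _, _, _, E7_u4⟩
  · exact ⟨_, _, _, _, E7_u5⟩
  · exact ⟨_, _, _, _, E7_u6⟩

end Cfsg.Lib.Chev.Univ
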