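import Cfsg.Agent.Chev.Univ.Section

/-! Certificates. -/

set_option autoImplicit false
set_option Elab.async false
set_option maxHeartbeats 0
set_option maxRecDepth 20000

open Cfsg.Lie

namespace Cfsg.Lib.Chev.Univ

theorem E8_u0 : okBase chevE8 E8.cert 0 [(0, (20, 226)), (1, (19, 227)), (2, (18, 228)), (3, (17, 229)), (4, (16, 230)), (5, (15, 231)), (7, (14, 233)), (14, (15, 231)), (15, (14, 233)), (16, (14, 233)), (17, (14, 233)), (18, (14, 233)), (19, (14, 233)), (20, (14, 233)), (21, (17, 229)), (22, (16, 230)), (23, (16, 230)), (24, (16, 230)), (25, (16, 230)), (26, (15, 231)), (27, (15, 231)), (28, (15, 231)), (29, (15, 231)), (30, (15, 231)), (31, (15, 231)), (32, (15, 231)), (33, (15, 231)), (34, (15, 231)), (35, (15, 231)), (36, (14, 233)), (37, (14, 233)), (38, (14, 233)), (39, (14, 233)), (40, (14, 233)), (41, (14, 233)), (42, (14, 233)), (43, (14, 233)), (44, (14, 233)), (45, (14, 233)), (46, (14, 233)), (47, (14, 233)), (48, (14, 233)), (49, (14, 233)), (50, (14, 233)), (51, (14, 233)),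 (52, (14, 233)), (53, (14, 233)), (54, (14, 233)), (55, (14, 233)), (78, (14, 233)), (79, (14, 233)), (80, (14, 233)), (81, (14, 233)), (82, (14, 233)), (83, (14, 233)), (84, (14, 233)), (85, (14, 233)), (86, (14, 233)), (87, (14, 233)), (88, (14, 233)), (89, (14, 233)), (90, (14, 233)), (91, (14, 233)), (92, (14, 233)), (93, (15, 231)), (94, (15, 231)), (95, (15, 231)), (96, (15, 231)), (97, (15, 231)), (98, (16, 230)), (99, (14, 233)), (100, (14, 233)), (101, (14, 233)), (102, (14, 233)), (103, (14, 233)), (104, (14, 233)), (105, (14, 233)), (106, (14, 233)), (107, (14, 233)), (108, (14, 233)), (109, (14, 233)), (110, (14, 233)), (111, (14, 233)), (112, (14, 233)), (113, (14, 233)), (114, (14, 233)), (115, (14, 233)), (116, (14, 233)), (117, (14, 233)), (118, (14, 233)), (119, (14, 233)), (120, (14, 233)), (121, (14, 233)), (122, (14, 233)), (123, (14, 233)), (124, (14, 233)), (125, (14, 233)), (126, (14, 233)), (127, (14, 233)), (128, (14, 233)), (129, (14, 233)), (130, (14, 233)), (131, (14, 233)),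 (132, (14, 233)), (133, (14, 233)), (134, (14, 233)), (141, (16, 230)), (142, (15, 231)), (143, (15, 231)), (144, (15, 231)), (145, (15, 231)), (146, (15, 231)), (162, (14, 233)), (163, (14, 233)), (164, (14, 233)), (165, (14, 233)), (166, (14, 233)), (167, (14, 233)), (168, (14, 233)), (169, (14, 233)), (170, (14, 233)), (171, (14, 233)), (172, (14, 233)), (173, (14, 233)), (174, (14, 233)), (175, (14, 233)), (176, (14, 233)), (177, (14, 233)), (178, (14, 233)), (179, (14, 233)), (180, (14, 233)), (181, (14, 233)), (182, (14, 233)), (183, (14, 233)), (184, (14, 233)), (185, (14, 233)), (186, (14, 233)), (187, (14, 233)), (188, (14, 233)), (189, (14, 233)), (190, (14, 233)), (191, (14, 233)), (192, (14, 233)), (193, (14, 233)), (194, (14, 233)), (195, (14, 233)), (196, (14, 233)), (197, (14, 233)), (198, (14, 233)), (199, (14, 233)), (200, (14, 233)), (201, (14, 233)), (202, (14, 233)), (203, (14, 233)), (204, (15, 231)), (205, (15, 231)), (206, (15, 231)), (207, (15, 231)), (208, (15, 231)), (209,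 (15, 231)), (210, (15, 231)), (211, (15, 231)), (212, (15, 231)), (213, (15, 231)), (214, (16, 230)), (215, (16, 230)), (216, (16, 230)), (217, (16, 230)), (218, (17, 229)), (226, (14, 233)), (227, (14, 233)), (228, (14, 233)), (229, (14, 233)), (230, (14, 233)), (231, (14, 233)), (232, (14, 233)), (233, (15, 231)), (234, (15, 231)), (235, (16, 230)), (236, (17, 229)), (237, (18, 228)), (238, (19, 227)), (239, (20, 226))] [((14, 233), (141, 231, 15)), ((15, 231), (98, 233, 14)), ((16, 230), (97, 233, 14)), ((17, 229), (96, 233, 14)), ((18, 228), (95, 233, 14)), ((19, 227), (94, 233, 14)), ((20, 226), (93, 233, 14)), ((78, 183), (35, 233, 14)), ((79, 182), (34, 233, 14)), ((80, 181), (33, 233, 14)), ((81, 180), (32, 233, 14)), ((82, 179), (31, 233, 14)), ((83, 178), (30, 233, 14)), ((84, 177), (29, 233, 14)), ((85, 176), (28, 233, 14)), ((86, 175), (27, 233, 14)), ((87, 174), (26, 233, 14)), ((88, 173), (25, 233, 14)), ((89, 172), (24, 233, 14)), ((90, 171), (23, 233, 14)), ((91, 170), (22, 233, 14)),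 ((92, 169), (21, 233, 14)), ((99, 168), (25, 231, 15)), ((100, 167), (24, 231, 15)), ((101, 166), (23, 231, 15)), ((102, 165), (22, 231, 15)), ((103, 164), (21, 231, 15)), ((104, 163), (21, 230, 16)), ((163, 104), (5, 233, 14)), ((164, 103), (4, 233, 14)), ((165, 102), (3, 233, 14)), ((166, 101), (2, 233, 14)), ((167, 100), (1, 233, 14)), ((168, 99), (0, 233, 14)), ((169, 92), (4, 231, 15)), ((170, 91), (3, 231, 15)), ((171, 90), (2, 231, 15)), ((172, 89), (1, 231, 15)), ((173, 88), (0, 231, 15)), ((174, 87), (3, 230, 16)), ((175, 86), (2, 230, 16)), ((176, 85), (1, 230, 16)), ((177, 84), (0, 230, 16)), ((178, 83), (2, 229, 17)), ((179, 82), (1, 229, 17)), ((180, 81), (0, 229, 17)), ((181, 80), (1, 228, 18)), ((182, 79), (0, 228, 18)), ((183, 78), (0, 227, 19)), ((226, 20), (1, 183, 78)), ((227, 19), (0, 183, 78)), ((228, 18), (0, 182, 79)), ((229, 17), (0, 180, 81)), ((230, 16), (0, 177, 84)), ((231, 15), (0, 173, 88)), ((233, 14), (0, 168, 99))] (14, 233) [((15, 231), (false, (98, 233, 14))), ((16,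 230), (false, (97, 233, 14))), ((17, 229), (false, (96, 233, 14))), ((18, 228), (false, (95, 233, 14))), ((19, 227), (false, (94, 233, 14))), ((20, 226), (false, (93, 233, 14))), ((78, 183), (false, (35, 233, 14))), ((79, 182), (false, (34, 233, 14))), ((80, 181), (false, (33, 233, 14))), ((81, 180), (false, (32, 233, 14))), ((82, 179), (false, (31, 233, 14))), ((83, 178), (false, (30, 233, 14))), ((84, 177), (false, (29, 233, 14))), ((85, 176), (false, (28, 233, 14))), ((86, 175), (false, (27, 233, 14))), ((87, 174), (false, (26, 233, 14))), ((88, 173), (false, (25, 233, 14))), ((89, 172), (false, (24, 233, 14))), ((90, 171), (false, (23, 233, 14))), ((91, 170), (false, (22, 233, 14))), ((92, 169), (false, (21, 233, 14))), ((163, 104), (false, (5, 233, 14))), ((164, 103), (false, (4, 233, 14))), ((165, 102), (false, (3, 233, 14))), ((166, 101), (false, (2, 233, 14))), ((167, 100), (false, (1, 233, 14))), ((168, 99), (false, (0, 233, 14))), ((233, 14), (true, (0, 0, 0))), ((99, 168), (false, (25, 231,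 15))), ((100, 167), (false, (24, 231, 15))), ((101, 166), (false, (23, 231, 15))), ((102, 165), (false, (22, 231, 15))), ((103, 164), (false, (21, 231, 15))), ((169, 92), (false, (4, 231, 15))), ((170, 91), (false, (3, 231, 15))), ((171, 90), (false, (2, 231, 15))), ((172, 89), (false, (1, 231, 15))), ((173, 88), (false, (0, 231, 15))), ((231, 15), (true, (0, 0, 0))), ((104, 163), (false, (21, 230, 16))), ((174, 87), (false, (3, 230, 16))), ((175, 86), (false, (2, 230, 16))), ((176, 85), (false, (1, 230, 16))), ((177, 84), (false, (0, 230, 16))), ((230, 16), (true, (0, 0, 0))), ((178, 83), (false, (2, 229, 17))), ((179, 82), (false, (1, 229, 17))), ((180, 81), (false, (0, 229, 17))), ((229, 17), (true, (0, 0, 0))), ((181, 80), (false, (1, 228, 18))), ((182, 79), (false, (0, 228, 18))), ((228, 18), (true, (0, 0, 0))), ((183, 78), (false, (0, 227, 19))), ((227, 19), (true, (0, 0, 0))), ((226, 20), (true, (0, 0, 0)))] = true := by decide +kernel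

theorem E8_u1 : okBase chevE8 E8.cert 1 [(0, (39, 210)), (1, (38, 211)), (2, (37, 212)), (3, (36, 213)), (4, (36, 213)), (7, (8, 233)), (8, (7, 234)), (9, (15, 225)), (10, (15, 225)), (11, (15, 225)), (12, (15, 225)), (13, (15, 225)), (15, (7, 234)), (16, (8, 233)), (17, (8, 233)), (18, (8, 233)), (19, (8, 233)), (20, (8, 233)), (21, (7, 234)), (22, (7, 234)), (23, (7, 234)), (24, (7, 234)), (25, (7, 234)), (36, (7, 234)), (37, (7, 234)), (38, (7, 234)), (39, (7, 234)), (40, (7, 234)), (41, (7, 234)), (42, (7, 234)), (43, (7, 234)), (44, (7, 234)), (45, (7, 234)), (46, (8, 233)), (47, (8, 233)), (48, (8, 233)), (49, (8, 233)), (50, (8, 233)), (51, (8, 233)), (52, (8, 233)), (53, (8, 233)), (54, (8, 233)), (55, (8, 233)), (56, (7, 234)), (57, (7, 234)), (58, (7, 234)), (59, (7, 234)), (60, (7, 234)), (61, (7, 234)), (62, (7, 234)), (63, (7, 234)), (64, (7, 234)), (65, (7, 234)), (71, (7, 234)), (72, (7, 234)), (73, (7, 234)), (74, (7, 234)), (75, (7, 234)), (76, (8, 233)), (77, (7, 234)), (78, (7, 234)),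 (79, (7, 234)), (80, (7, 234)), (81, (7, 234)), (82, (7, 234)), (83, (7, 234)), (84, (7, 234)), (85, (7, 234)), (86, (7, 234)), (87, (7, 234)), (99, (7, 234)), (100, (7, 234)), (101, (7, 234)), (102, (7, 234)), (103, (7, 234)), (104, (15, 225)), (105, (7, 234)), (106, (7, 234)), (107, (7, 234)), (108, (7, 234)), (109, (7, 234)), (110, (7, 234)), (111, (7, 234)), (112, (7, 234)), (113, (7, 234)), (114, (7, 234)), (115, (7, 234)), (116, (7, 234)), (117, (7, 234)), (118, (7, 234)), (119, (7, 234)), (120, (7, 234)), (121, (7, 234)), (122, (7, 234)), (123, (7, 234)), (124, (7, 234)), (125, (7, 234)), (126, (7, 234)), (127, (7, 234)), (128, (7, 234)), (129, (7, 234)), (135, (15, 225)), (141, (7, 234)), (142, (7, 234)), (143, (7, 234)), (144, (7, 234)), (145, (7, 234)), (146, (7, 234)), (147, (7, 234)), (148, (7, 234)), (149, (7, 234)), (150, (7, 234)), (151, (7, 234)), (152, (7, 234)), (153, (7, 234)), (154, (7, 234)), (155, (7, 234)), (156, (7, 234)), (157, (7, 234)), (158, (7, 234)), (159, (7, 234)), (160,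 (7, 234)), (161, (7, 234)), (162, (7, 234)), (163, (8, 233)), (169, (7, 234)), (170, (7, 234)), (171, (7, 234)), (172, (7, 234)), (173, (7, 234)), (174, (7, 234)), (175, (7, 234)), (176, (7, 234)), (177, (7, 234)), (178, (7, 234)), (179, (7, 234)), (180, (7, 234)), (181, (7, 234)), (182, (7, 234)), (183, (7, 234)), (184, (8, 233)), (185, (8, 233)), (186, (8, 233)), (187, (8, 233)), (188, (8, 233)), (189, (8, 233)), (190, (8, 233)), (191, (8, 233)), (192, (8, 233)), (193, (8, 233)), (204, (7, 234)), (205, (7, 234)), (206, (7, 234)), (207, (7, 234)), (208, (7, 234)), (209, (7, 234)), (210, (7, 234)), (211, (7, 234)), (212, (7, 234)), (213, (7, 234)), (214, (7, 234)), (215, (7, 234)), (216, (7, 234)), (217, (7, 234)), (218, (7, 234)), (219, (8, 233)), (220, (8, 233)), (221, (8, 233)), (222, (8, 233)), (223, (8, 233)), (225, (7, 234)), (226, (15, 225)), (227, (15, 225)), (228, (15, 225)), (229, (15, 225)), (230, (15, 225)), (233, (7, 234)), (234, (8, 233)), (235, (36, 213)), (236, (36, 213)), (237, (37,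 212)), (238, (38, 211)), (239, (39, 210))] [((7, 234), (135, 233, 8)), ((8, 233), (104, 234, 7)), ((15, 225), (76, 234, 7)), ((36, 213), (55, 234, 7)), ((37, 212), (54, 234, 7)), ((38, 211), (53, 234, 7)), ((39, 210), (52, 234, 7)), ((40, 209), (51, 234, 7)), ((41, 208), (50, 234, 7)), ((42, 207), (49, 234, 7)), ((43, 206), (48, 234, 7)), ((44, 205), (47, 234, 7)), ((45, 204), (46, 234, 7)), ((71, 173), (20, 234, 7)), ((72, 172), (19, 234, 7)), ((73, 171), (18, 234, 7)), ((74, 170), (17, 234, 7)), ((75, 169), (16, 234, 7)), ((99, 151), (13, 234, 7)), ((100, 150), (12, 234, 7)), ((101, 149), (11, 234, 7)), ((102, 148), (10, 234, 7)), ((103, 147), (9, 234, 7)), ((105, 146), (13, 233, 8)), ((106, 145), (12, 233, 8)), ((107, 144), (11, 233, 8)), ((108, 143), (10, 233, 8)), ((109, 142), (9, 233, 8)), ((142, 109), (4, 234, 7)), ((143, 108), (3, 234, 7)), ((144, 107), (2, 234, 7)), ((145, 106), (1, 234, 7)), ((146, 105), (0, 234, 7)), ((147, 103), (4, 233, 8)), ((148, 102), (3, 233, 8)), ((149, 101), (2, 233,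 8)), ((150, 100), (1, 233, 8)), ((151, 99), (0, 233, 8)), ((169, 75), (4, 225, 15)), ((170, 74), (3, 225, 15)), ((171, 73), (2, 225, 15)), ((172, 72), (1, 225, 15)), ((173, 71), (0, 225, 15)), ((204, 45), (2, 213, 36)), ((205, 44), (1, 213, 36)), ((206, 43), (0, 213, 36)), ((207, 42), (1, 212, 37)), ((208, 41), (0, 212, 37)), ((209, 40), (0, 211, 38)), ((210, 39), (1, 209, 40)), ((211, 38), (0, 209, 40)), ((212, 37), (0, 208, 41)), ((213, 36), (0, 206, 43)), ((225, 15), (0, 173, 71)), ((233, 8), (0, 151, 99)), ((234, 7), (0, 146, 105))] (7, 234) [((8, 233), (false, (104, 234, 7))), ((15, 225), (false, (76, 234, 7))), ((36, 213), (false, (55, 234, 7))), ((37, 212), (false, (54, 234, 7))), ((38, 211), (false, (53, 234, 7))), ((39, 210), (false, (52, 234, 7))), ((40, 209), (false, (51, 234, 7))), ((41, 208), (false, (50, 234, 7))), ((42, 207), (false, (49, 234, 7))), ((43, 206), (false, (48, 234, 7))), ((44, 205), (false, (47, 234, 7))), ((45, 204), (false, (46, 234, 7))), ((71, 173), (false, (20, 234,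 7))), ((72, 172), (false, (19, 234, 7))), ((73, 171), (false, (18, 234, 7))), ((74, 170), (false, (17, 234, 7))), ((75, 169), (false, (16, 234, 7))), ((99, 151), (false, (13, 234, 7))), ((100, 150), (false, (12, 234, 7))), ((101, 149), (false, (11, 234, 7))), ((102, 148), (false, (10, 234, 7))), ((103, 147), (false, (9, 234, 7))), ((142, 109), (false, (4, 234, 7))), ((143, 108), (false, (3, 234, 7))), ((144, 107), (false, (2, 234, 7))), ((145, 106), (false, (1, 234, 7))), ((146, 105), (false, (0, 234, 7))), ((234, 7), (true, (0, 0, 0))), ((105, 146), (false, (13, 233, 8))), ((106, 145), (false, (12, 233, 8))), ((107, 144), (false, (11, 233, 8))), ((108, 143), (false, (10, 233, 8))), ((109, 142), (false, (9, 233, 8))), ((147, 103), (false, (4, 233, 8))), ((148, 102), (false, (3, 233, 8))), ((149, 101), (false, (2, 233, 8))), ((150, 100), (false, (1, 233, 8))), ((151, 99), (false, (0, 233, 8))), ((233, 8), (true, (0, 0, 0))), ((169, 75), (false, (4, 225, 15))), ((170, 74), (false, (3, 225, 15))), ((171,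 73), (false, (2, 225, 15))), ((172, 72), (false, (1, 225, 15))), ((173, 71), (false, (0, 225, 15))), ((225, 15), (true, (0, 0, 0))), ((204, 45), (false, (2, 213, 36))), ((205, 44), (false, (1, 213, 36))), ((206, 43), (false, (0, 213, 36))), ((213, 36), (true, (0, 0, 0))), ((207, 42), (false, (1, 212, 37))), ((208, 41), (false, (0, 212, 37))), ((212, 37), (true, (0, 0, 0))), ((209, 40), (false, (0, 211, 38))), ((211, 38), (true, (0, 0, 0))), ((210, 39), (true, (0, 0, 0)))] = true := by decide +kernel

theorem E8_u2 : okBase chevE8 E8.cert 2 [(0, (25, 219)), (1, (24, 220)), (2, (23, 221)), (3, (22, 222)), (4, (21, 223)), (6, (8, 232)), (8, (6, 234)), (9, (22, 222)), (10, (21, 223)), (11, (21, 223)), (12, (21, 223)), (13, (21, 223)), (14, (8, 232)), (15, (6, 234)), (21, (6, 234)), (22, (6, 234)), (23, (6, 234)), (24, (6, 234)), (25, (6, 234)), (26, (8, 232)), (27, (8, 232)), (28, (8, 232)), (29, (8, 232)), (30, (8, 232)), (31, (8, 232)), (32, (8, 232)), (33, (8, 232)), (34, (8, 232)), (35, (8, 232)), (36,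 (6, 234)), (37, (6, 234)), (38, (6, 234)), (39, (6, 234)), (40, (6, 234)), (41, (6, 234)), (42, (6, 234)), (43, (6, 234)), (44, (6, 234)), (45, (6, 234)), (56, (6, 234)), (57, (6, 234)), (58, (6, 234)), (59, (6, 234)), (60, (6, 234)), (61, (6, 234)), (62, (6, 234)), (63, (6, 234)), (64, (6, 234)), (65, (6, 234)), (66, (8, 232)), (67, (8, 232)), (68, (8, 232)), (69, (8, 232)), (70, (8, 232)), (71, (6, 234)), (72, (6, 234)), (73, (6, 234)), (74, (6, 234)), (75, (6, 234)), (77, (6, 234)), (78, (6, 234)), (79, (6, 234)), (80, (6, 234)), (81, (6, 234)), (82, (6, 234)), (83, (6, 234)), (84, (6, 234)), (85, (6, 234)), (86, (6, 234)), (87, (6, 234)), (93, (6, 234)), (94, (6, 234)), (95, (6, 234)), (96, (6, 234)), (97, (6, 234)), (98, (21, 223)), (105, (6, 234)), (106, (6, 234)), (107, (6, 234)), (108, (6, 234)), (109, (6, 234)), (110, (6, 234)), (111, (6, 234)), (112, (6, 234)), (113, (6, 234)), (114, (6, 234)), (115, (6, 234)), (116, (6, 234)), (117, (6, 234)), (118, (6, 234)), (119, (6, 234)), (120, (6, 234)),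 (121, (6, 234)), (122, (6, 234)), (123, (6, 234)), (124, (6, 234)), (125, (6, 234)), (126, (6, 234)), (127, (6, 234)), (128, (6, 234)), (129, (6, 234)), (135, (6, 234)), (136, (6, 234)), (137, (6, 234)), (138, (6, 234)), (139, (6, 234)), (140, (6, 234)), (141, (21, 223)), (147, (6, 234)), (148, (6, 234)), (149, (6, 234)), (150, (6, 234)), (151, (6, 234)), (152, (6, 234)), (153, (6, 234)), (154, (6, 234)), (155, (6, 234)), (156, (6, 234)), (157, (6, 234)), (158, (6, 234)), (159, (6, 234)), (160, (6, 234)), (161, (6, 234)), (163, (6, 234)), (164, (6, 234)), (165, (6, 234)), (166, (6, 234)), (167, (6, 234)), (168, (6, 234)), (169, (8, 232)), (170, (8, 232)), (171, (8, 232)), (172, (8, 232)), (173, (8, 232)), (184, (6, 234)), (185, (6, 234)), (186, (6, 234)), (187, (6, 234)), (188, (6, 234)), (189, (6, 234)), (190, (6, 234)), (191, (6, 234)), (192, (6, 234)), (193, (6, 234)), (194, (6, 234)), (195, (6, 234)), (196, (6, 234)), (197, (6, 234)), (198, (6, 234)), (199, (6, 234)), (200, (6, 234)), (201, (6,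 234)), (202, (6, 234)), (203, (6, 234)), (204, (8, 232)), (205, (8, 232)), (206, (8, 232)), (207, (8, 232)), (208, (8, 232)), (209, (8, 232)), (210, (8, 232)), (211, (8, 232)), (212, (8, 232)), (213, (8, 232)), (219, (6, 234)), (220, (6, 234)), (221, (6, 234)), (222, (6, 234)), (223, (6, 234)), (224, (6, 234)), (225, (8, 232)), (226, (21, 223)), (227, (21, 223)), (228, (21, 223)), (229, (21, 223)), (230, (22, 222)), (232, (6, 234)), (234, (8, 232)), (235, (21, 223)), (236, (22, 222)), (237, (23, 221)), (238, (24, 220)), (239, (25, 219))] [((6, 234), (141, 232, 8)), ((8, 232), (98, 234, 6)), ((21, 223), (70, 234, 6)), ((22, 222), (69, 234, 6)), ((23, 221), (68, 234, 6)), ((24, 220), (67, 234, 6)), ((25, 219), (66, 234, 6)), ((56, 193), (35, 234, 6)), ((57, 192), (34, 234, 6)), ((58, 191), (33, 234, 6)), ((59, 190), (32, 234, 6)), ((60, 189), (31, 234, 6)), ((61, 188), (30, 234, 6)), ((62, 187), (29, 234, 6)), ((63, 186), (28, 234, 6)), ((64, 185), (27, 234, 6)), ((65, 184), (26, 234, 6)), ((77, 163),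 (14, 234, 6)), ((93, 151), (13, 234, 6)), ((94, 150), (12, 234, 6)), ((95, 149), (11, 234, 6)), ((96, 148), (10, 234, 6)), ((97, 147), (9, 234, 6)), ((105, 140), (13, 232, 8)), ((106, 139), (12, 232, 8)), ((107, 138), (11, 232, 8)), ((108, 137), (10, 232, 8)), ((109, 136), (9, 232, 8)), ((136, 109), (4, 234, 6)), ((137, 108), (3, 234, 6)), ((138, 107), (2, 234, 6)), ((139, 106), (1, 234, 6)), ((140, 105), (0, 234, 6)), ((147, 97), (4, 232, 8)), ((148, 96), (3, 232, 8)), ((149, 95), (2, 232, 8)), ((150, 94), (1, 232, 8)), ((151, 93), (0, 232, 8)), ((163, 77), (9, 223, 21)), ((184, 65), (3, 223, 21)), ((185, 64), (2, 223, 21)), ((186, 63), (1, 223, 21)), ((187, 62), (0, 223, 21)), ((188, 61), (2, 222, 22)), ((189, 60), (1, 222, 22)), ((190, 59), (0, 222, 22)), ((191, 58), (1, 221, 23)), ((192, 57), (0, 221, 23)), ((193, 56), (0, 220, 24)), ((219, 25), (1, 193, 56)), ((220, 24), (0, 193, 56)), ((221, 23), (0, 192, 57)), ((222, 22), (0, 190, 59)), ((223, 21), (0, 187, 62)), ((232, 8), (0, 151, 93)), ((234,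 6), (0, 140, 105))] (6, 234) [((8, 232), (false, (98, 234, 6))), ((21, 223), (false, (70, 234, 6))), ((22, 222), (false, (69, 234, 6))), ((23, 221), (false, (68, 234, 6))), ((24, 220), (false, (67, 234, 6))), ((25, 219), (false, (66, 234, 6))), ((56, 193), (false, (35, 234, 6))), ((57, 192), (false, (34, 234, 6))), ((58, 191), (false, (33, 234, 6))), ((59, 190), (false, (32, 234, 6))), ((60, 189), (false, (31, 234, 6))), ((61, 188), (false, (30, 234, 6))), ((62, 187), (false, (29, 234, 6))), ((63, 186), (false, (28, 234, 6))), ((64, 185), (false, (27, 234, 6))), ((65, 184), (false, (26, 234, 6))), ((77, 163), (false, (14, 234, 6))), ((93, 151), (false, (13, 234, 6))), ((94, 150), (false, (12, 234, 6))), ((95, 149), (false, (11, 234, 6))), ((96, 148), (false, (10, 234, 6))), ((97, 147), (false, (9, 234, 6))), ((136, 109), (false, (4, 234, 6))), ((137, 108), (false, (3, 234, 6))), ((138, 107), (false, (2, 234, 6))), ((139, 106), (false, (1, 234, 6))), ((140, 105), (false, (0, 234, 6))), ((234, 6), (true,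 (0, 0, 0))), ((105, 140), (false, (13, 232, 8))), ((106, 139), (false, (12, 232, 8))), ((107, 138), (false, (11, 232, 8))), ((108, 137), (false, (10, 232, 8))), ((109, 136), (false, (9, 232, 8))), ((147, 97), (false, (4, 232, 8))), ((148, 96), (false, (3, 232, 8))), ((149, 95), (false, (2, 232, 8))), ((150, 94), (false, (1, 232, 8))), ((151, 93), (false, (0, 232, 8))), ((232, 8), (true, (0, 0, 0))), ((163, 77), (false, (9, 223, 21))), ((184, 65), (false, (3, 223, 21))), ((185, 64), (false, (2, 223, 21))), ((186, 63), (false, (1, 223, 21))), ((187, 62), (false, (0, 223, 21))), ((223, 21), (true, (0, 0, 0))), ((188, 61), (false, (2, 222, 22))), ((189, 60), (false, (1, 222, 22))), ((190, 59), (false, (0, 222, 22))), ((222, 22), (true, (0, 0, 0))), ((191, 58), (false, (1, 221, 23))), ((192, 57), (false, (0, 221, 23))), ((221, 23), (true, (0, 0, 0))), ((193, 56), (false, (0, 220, 24))), ((220, 24), (true, (0, 0, 0))), ((219, 25), (true, (0, 0, 0)))] = true := by decide +kernel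

theorem E8_u3 : okBase chevE8 E8.cert 3 [(0, (29, 214)), (1, (28, 215)), (2, (27, 216)), (3, (26, 217)), (5, (9, 231)), (6, (16, 224)), (7, (26, 217)), (9, (5, 235)), (10, (16, 224)), (11, (16, 224)), (12, (16, 224)), (13, (16, 224)), (14, (9, 231)), (16, (5, 235)), (17, (9, 231)), (18, (9, 231)), (19, (9, 231)), (20, (9, 231)), (21, (5, 235)), (26, (5, 235)), (27, (5, 235)), (28, (5, 235)), (29, (5, 235)), (30, (9, 231)), (31, (9, 231)), (32, (9, 231)), (33, (9, 231)), (34, (9, 231)), (35, (9, 231)), (36, (5, 235)), (37, (5, 235)), (38, (5, 235)), (39, (5, 235)), (46, (5, 235)), (47, (5, 235)), (48, (5, 235)), (49, (5, 235)), (50, (5, 235)), (51, (5, 235)), (52, (9, 231)), (53, (9, 231)), (54, (9, 231)), (55, (9, 231)), (56, (5, 235)), (57, (5, 235)), (58, (5, 235)), (59, (5, 235)), (60, (5, 235)), (61, (5, 235)), (66, (5, 235)), (67, (5, 235)), (68, (5, 235)), (69, (5, 235)), (70, (9, 231)), (71, (5, 235)), (72, (5, 235)), (73, (5, 235)), (74, (5, 235)), (76, (5, 235)), (77, (5, 235)), (78, (5, 235)),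 (79, (5, 235)), (80, (5, 235)), (81, (5, 235)), (82, (5, 235)), (83, (5, 235)), (88, (5, 235)), (89, (5, 235)), (90, (5, 235)), (91, (5, 235)), (92, (16, 224)), (93, (5, 235)), (94, (5, 235)), (95, (5, 235)), (96, (5, 235)), (98, (5, 235)), (99, (5, 235)), (100, (5, 235)), (101, (5, 235)), (102, (5, 235)), (104, (5, 235)), (110, (5, 235)), (111, (5, 235)), (112, (5, 235)), (113, (5, 235)), (114, (5, 235)), (115, (5, 235)), (116, (5, 235)), (117, (5, 235)), (118, (5, 235)), (119, (5, 235)), (120, (5, 235)), (121, (5, 235)), (122, (5, 235)), (123, (5, 235)), (124, (5, 235)), (125, (5, 235)), (130, (5, 235)), (131, (5, 235)), (132, (5, 235)), (133, (5, 235)), (134, (5, 235)), (136, (5, 235)), (137, (5, 235)), (138, (5, 235)), (139, (5, 235)), (140, (5, 235)), (142, (5, 235)), (143, (5, 235)), (144, (5, 235)), (145, (5, 235)), (146, (5, 235)), (147, (16, 224)), (152, (5, 235)), (153, (5, 235)), (154, (5, 235)), (155, (5, 235)), (156, (5, 235)), (157, (5, 235)), (158, (5, 235)), (159, (5, 235)), (160, (5,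 235)), (161, (5, 235)), (162, (5, 235)), (164, (5, 235)), (165, (5, 235)), (166, (5, 235)), (167, (5, 235)), (168, (5, 235)), (169, (9, 231)), (174, (5, 235)), (175, (5, 235)), (176, (5, 235)), (177, (5, 235)), (178, (5, 235)), (179, (5, 235)), (180, (5, 235)), (181, (5, 235)), (182, (5, 235)), (183, (5, 235)), (184, (9, 231)), (185, (9, 231)), (186, (9, 231)), (187, (9, 231)), (194, (5, 235)), (195, (5, 235)), (196, (5, 235)), (197, (5, 235)), (198, (5, 235)), (199, (5, 235)), (200, (5, 235)), (201, (5, 235)), (202, (5, 235)), (203, (5, 235)), (204, (9, 231)), (205, (9, 231)), (206, (9, 231)), (207, (9, 231)), (208, (9, 231)), (209, (9, 231)), (214, (5, 235)), (215, (5, 235)), (216, (5, 235)), (217, (5, 235)), (218, (5, 235)), (219, (9, 231)), (220, (9, 231)), (221, (9, 231)), (222, (9, 231)), (224, (5, 235)), (225, (9, 231)), (226, (16, 224)), (227, (16, 224)), (228, (16, 224)), (229, (16, 224)), (231, (5, 235)), (232, (26, 217)), (233, (16, 224)), (235, (9, 231)), (236, (26, 217)), (237, (27, 216)),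 (238, (28, 215)), (239, (29, 214))] [((5, 235), (147, 231, 9)), ((9, 231), (92, 235, 5)), ((16, 224), (70, 235, 5)), ((26, 217), (55, 235, 5)), ((27, 216), (54, 235, 5)), ((28, 215), (53, 235, 5)), ((29, 214), (52, 235, 5)), ((46, 199), (35, 235, 5)), ((47, 198), (34, 235, 5)), ((48, 197), (33, 235, 5)), ((49, 196), (32, 235, 5)), ((50, 195), (31, 235, 5)), ((51, 194), (30, 235, 5)), ((66, 177), (20, 235, 5)), ((67, 176), (19, 235, 5)), ((68, 175), (18, 235, 5)), ((69, 174), (17, 235, 5)), ((76, 164), (14, 235, 5)), ((88, 155), (13, 235, 5)), ((89, 154), (12, 235, 5)), ((90, 153), (11, 235, 5)), ((91, 152), (10, 235, 5)), ((98, 142), (7, 235, 5)), ((104, 136), (6, 235, 5)), ((110, 134), (13, 231, 9)), ((111, 133), (12, 231, 9)), ((112, 132), (11, 231, 9)), ((113, 131), (10, 231, 9)), ((131, 113), (3, 235, 5)), ((132, 112), (2, 235, 5)), ((133, 111), (1, 235, 5)), ((134, 110), (0, 235, 5)), ((136, 104), (7, 231, 9)), ((142, 98), (6, 231, 9)), ((152, 91), (3, 231, 9)), ((153, 90), (2, 231, 9)), ((154,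 89), (1, 231, 9)), ((155, 88), (0, 231, 9)), ((164, 76), (7, 224, 16)), ((174, 69), (3, 224, 16)), ((175, 68), (2, 224, 16)), ((176, 67), (1, 224, 16)), ((177, 66), (0, 224, 16)), ((194, 51), (2, 217, 26)), ((195, 50), (1, 217, 26)), ((196, 49), (0, 217, 26)), ((197, 48), (1, 216, 27)), ((198, 47), (0, 216, 27)), ((199, 46), (0, 215, 28)), ((214, 29), (1, 199, 46)), ((215, 28), (0, 199, 46)), ((216, 27), (0, 198, 47)), ((217, 26), (0, 196, 49)), ((224, 16), (0, 177, 66)), ((231, 9), (0, 155, 88)), ((235, 5), (0, 134, 110))] (5, 235) [((9, 231), (false, (92, 235, 5))), ((16, 224), (false, (70, 235, 5))), ((26, 217), (false, (55, 235, 5))), ((27, 216), (false, (54, 235, 5))), ((28, 215), (false, (53, 235, 5))), ((29, 214), (false, (52, 235, 5))), ((46, 199), (false, (35, 235, 5))), ((47, 198), (false, (34, 235, 5))), ((48, 197), (false, (33, 235, 5))), ((49, 196), (false, (32, 235, 5))), ((50, 195), (false, (31, 235, 5))), ((51, 194), (false, (30, 235, 5))), ((66, 177), (false, (20, 235, 5))), ((67, 176),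 (false, (19, 235, 5))), ((68, 175), (false, (18, 235, 5))), ((69, 174), (false, (17, 235, 5))), ((76, 164), (false, (14, 235, 5))), ((88, 155), (false, (13, 235, 5))), ((89, 154), (false, (12, 235, 5))), ((90, 153), (false, (11, 235, 5))), ((91, 152), (false, (10, 235, 5))), ((98, 142), (false, (7, 235, 5))), ((104, 136), (false, (6, 235, 5))), ((131, 113), (false, (3, 235, 5))), ((132, 112), (false, (2, 235, 5))), ((133, 111), (false, (1, 235, 5))), ((134, 110), (false, (0, 235, 5))), ((235, 5), (true, (0, 0, 0))), ((110, 134), (false, (13, 231, 9))), ((111, 133), (false, (12, 231, 9))), ((112, 132), (false, (11, 231, 9))), ((113, 131), (false, (10, 231, 9))), ((136, 104), (false, (7, 231, 9))), ((142, 98), (false, (6, 231, 9))), ((152, 91), (false, (3, 231, 9))), ((153, 90), (false, (2, 231, 9))), ((154, 89), (false, (1, 231, 9))), ((155, 88), (false, (0, 231, 9))), ((231, 9), (true, (0, 0, 0))), ((164, 76), (false, (7, 224, 16))), ((174, 69), (false, (3, 224, 16))), ((175, 68), (false, (2, 224, 16))),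 ((176, 67), (false, (1, 224, 16))), ((177, 66), (false, (0, 224, 16))), ((224, 16), (true, (0, 0, 0))), ((194, 51), (false, (2, 217, 26))), ((195, 50), (false, (1, 217, 26))), ((196, 49), (false, (0, 217, 26))), ((217, 26), (true, (0, 0, 0))), ((197, 48), (false, (1, 216, 27))), ((198, 47), (false, (0, 216, 27))), ((216, 27), (true, (0, 0, 0))), ((199, 46), (false, (0, 215, 28))), ((215, 28), (true, (0, 0, 0))), ((214, 29), (true, (0, 0, 0)))] = true := by decide +kernel

theorem E8_u4 : okBase chevE8 E8.cert 4 [(0, (32, 210)), (1, (31, 211)), (2, (30, 212)), (4, (10, 230)), (5, (22, 218)), (6, (17, 223)), (7, (22, 218)), (8, (17, 223)), (10, (4, 236)), (11, (17, 223)), (12, (17, 223)), (13, (17, 223)), (14, (10, 230)), (15, (10, 230)), (17, (4, 236)), (18, (10, 230)), (19, (10, 230)), (20, (10, 230)), (22, (4, 236)), (23, (10, 230)), (24, (10, 230)), (25, (10, 230)), (26, (4, 236)), (30, (4, 236)), (31, (4, 236)), (32, (4, 236)), (33, (10, 230)), (34, (10, 230)), (35, (10, 230)), (36, (4, 236)), (40,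 (4, 236)), (41, (4, 236)), (42, (4, 236)), (43, (10, 230)), (44, (10, 230)), (45, (10, 230)), (46, (4, 236)), (47, (4, 236)), (48, (4, 236)), (52, (4, 236)), (53, (4, 236)), (54, (4, 236)), (55, (10, 230)), (56, (4, 236)), (57, (4, 236)), (58, (4, 236)), (62, (4, 236)), (63, (4, 236)), (64, (4, 236)), (65, (10, 230)), (66, (4, 236)), (67, (4, 236)), (68, (4, 236)), (70, (4, 236)), (71, (4, 236)), (72, (4, 236)), (73, (4, 236)), (75, (4, 236)), (76, (4, 236)), (77, (4, 236)), (78, (4, 236)), (79, (4, 236)), (80, (4, 236)), (84, (4, 236)), (85, (4, 236)), (86, (4, 236)), (87, (17, 223)), (88, (4, 236)), (89, (4, 236)), (90, (4, 236)), (92, (4, 236)), (93, (4, 236)), (94, (4, 236)), (95, (4, 236)), (97, (4, 236)), (98, (4, 236)), (99, (4, 236)), (100, (4, 236)), (101, (4, 236)), (103, (4, 236)), (104, (4, 236)), (105, (4, 236)), (106, (4, 236)), (107, (4, 236)), (109, (4, 236)), (114, (4, 236)), (115, (4, 236)), (116, (4, 236)), (117, (4, 236)), (118, (4, 236)), (119, (4, 236)), (120, (4, 236)), (121,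 (4, 236)), (122, (4, 236)), (126, (4, 236)), (127, (4, 236)), (128, (4, 236)), (129, (4, 236)), (131, (4, 236)), (132, (4, 236)), (133, (4, 236)), (134, (4, 236)), (135, (4, 236)), (137, (4, 236)), (138, (4, 236)), (139, (4, 236)), (140, (4, 236)), (141, (4, 236)), (143, (4, 236)), (144, (4, 236)), (145, (4, 236)), (146, (4, 236)), (148, (4, 236)), (149, (4, 236)), (150, (4, 236)), (151, (4, 236)), (152, (17, 223)), (156, (4, 236)), (157, (4, 236)), (158, (4, 236)), (159, (4, 236)), (160, (4, 236)), (161, (4, 236)), (162, (4, 236)), (163, (4, 236)), (165, (4, 236)), (166, (4, 236)), (167, (4, 236)), (168, (4, 236)), (170, (4, 236)), (171, (4, 236)), (172, (4, 236)), (173, (4, 236)), (174, (10, 230)), (178, (4, 236)), (179, (4, 236)), (180, (4, 236)), (181, (4, 236)), (182, (4, 236)), (183, (4, 236)), (184, (10, 230)), (188, (4, 236)), (189, (4, 236)), (190, (4, 236)), (191, (4, 236)), (192, (4, 236)), (193, (4, 236)), (194, (10, 230)), (195, (10, 230)), (196, (10, 230)), (200, (4, 236)), (201, (4, 236)),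 (202, (4, 236)), (203, (4, 236)), (204, (10, 230)), (205, (10, 230)), (206, (10, 230)), (210, (4, 236)), (211, (4, 236)), (212, (4, 236)), (213, (4, 236)), (214, (10, 230)), (215, (10, 230)), (216, (10, 230)), (218, (4, 236)), (219, (10, 230)), (220, (10, 230)), (221, (10, 230)), (223, (4, 236)), (224, (10, 230)), (225, (10, 230)), (226, (17, 223)), (227, (17, 223)), (228, (17, 223)), (230, (4, 236)), (231, (17, 223)), (232, (22, 218)), (233, (17, 223)), (234, (22, 218)), (236, (10, 230)), (237, (30, 212)), (238, (31, 211)), (239, (32, 210))] [((4, 236), (152, 230, 10)), ((10, 230), (87, 236, 4)), ((17, 223), (65, 236, 4)), ((22, 218), (55, 236, 4)), ((30, 212), (45, 236, 4)), ((31, 211), (44, 236, 4)), ((32, 210), (43, 236, 4)), ((40, 202), (35, 236, 4)), ((41, 201), (34, 236, 4)), ((42, 200), (33, 236, 4)), ((52, 190), (25, 236, 4)), ((53, 189), (24, 236, 4)), ((54, 188), (23, 236, 4)), ((62, 180), (20, 236, 4)), ((63, 179), (19, 236, 4)), ((64, 178), (18, 236, 4)), ((70, 170), (15, 236, 4)), ((75,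 165), (14, 236, 4)), ((84, 158), (13, 236, 4)), ((85, 157), (12, 236, 4)), ((86, 156), (11, 236, 4)), ((92, 148), (8, 236, 4)), ((97, 143), (7, 236, 4)), ((103, 137), (6, 236, 4)), ((109, 131), (5, 236, 4)), ((114, 129), (13, 230, 10)), ((115, 128), (12, 230, 10)), ((116, 127), (11, 230, 10)), ((127, 116), (2, 236, 4)), ((128, 115), (1, 236, 4)), ((129, 114), (0, 236, 4)), ((131, 109), (8, 230, 10)), ((137, 103), (7, 230, 10)), ((143, 97), (6, 230, 10)), ((148, 92), (5, 230, 10)), ((156, 86), (2, 230, 10)), ((157, 85), (1, 230, 10)), ((158, 84), (0, 230, 10)), ((165, 75), (7, 223, 17)), ((170, 70), (5, 223, 17)), ((178, 64), (2, 223, 17)), ((179, 63), (1, 223, 17)), ((180, 62), (0, 223, 17)), ((188, 54), (2, 218, 22)), ((189, 53), (1, 218, 22)), ((190, 52), (0, 218, 22)), ((200, 42), (1, 212, 30)), ((201, 41), (0, 212, 30)), ((202, 40), (0, 211, 31)), ((210, 32), (1, 202, 40)), ((211, 31), (0, 202, 40)), ((212, 30), (0, 201, 41)), ((218, 22), (0, 190, 52)), ((223, 17), (0, 180, 62)), ((230, 10), (0,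 158, 84)), ((236, 4), (0, 129, 114))] (4, 236) [((10, 230), (false, (87, 236, 4))), ((17, 223), (false, (65, 236, 4))), ((22, 218), (false, (55, 236, 4))), ((30, 212), (false, (45, 236, 4))), ((31, 211), (false, (44, 236, 4))), ((32, 210), (false, (43, 236, 4))), ((40, 202), (false, (35, 236, 4))), ((41, 201), (false, (34, 236, 4))), ((42, 200), (false, (33, 236, 4))), ((52, 190), (false, (25, 236, 4))), ((53, 189), (false, (24, 236, 4))), ((54, 188), (false, (23, 236, 4))), ((62, 180), (false, (20, 236, 4))), ((63, 179), (false, (19, 236, 4))), ((64, 178), (false, (18, 236, 4))), ((70, 170), (false, (15, 236, 4))), ((75, 165), (false, (14, 236, 4))), ((84, 158), (false, (13, 236, 4))), ((85, 157), (false, (12, 236, 4))), ((86, 156), (false, (11, 236, 4))), ((92, 148), (false, (8, 236, 4))), ((97, 143), (false, (7, 236, 4))), ((103, 137), (false, (6, 236, 4))), ((109, 131), (false, (5, 236, 4))), ((127, 116), (false, (2, 236, 4))), ((128, 115), (false, (1, 236, 4))), ((129, 114), (false, (0, 236, 4))),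 ((236, 4), (true, (0, 0, 0))), ((114, 129), (false, (13, 230, 10))), ((115, 128), (false, (12, 230, 10))), ((116, 127), (false, (11, 230, 10))), ((131, 109), (false, (8, 230, 10))), ((137, 103), (false, (7, 230, 10))), ((143, 97), (false, (6, 230, 10))), ((148, 92), (false, (5, 230, 10))), ((156, 86), (false, (2, 230, 10))), ((157, 85), (false, (1, 230, 10))), ((158, 84), (false, (0, 230, 10))), ((230, 10), (true, (0, 0, 0))), ((165, 75), (false, (7, 223, 17))), ((170, 70), (false, (5, 223, 17))), ((178, 64), (false, (2, 223, 17))), ((179, 63), (false, (1, 223, 17))), ((180, 62), (false, (0, 223, 17))), ((223, 17), (true, (0, 0, 0))), ((188, 54), (false, (2, 218, 22))), ((189, 53), (false, (1, 218, 22))), ((190, 52), (false, (0, 218, 22))), ((218, 22), (true, (0, 0, 0))), ((200, 42), (false, (1, 212, 30))), ((201, 41), (false, (0, 212, 30))), ((212, 30), (true, (0, 0, 0))), ((202, 40), (false, (0, 211, 31))), ((211, 31), (true, (0, 0, 0))), ((210, 32), (true, (0, 0, 0)))] = true := by decide +kernel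

theorem E8_u5 : okBase chevE8 E8.cert 5 [(0, (34, 207)), (1, (33, 208)), (3, (11, 229)), (4, (27, 213)), (5, (23, 217)), (6, (18, 222)), (7, (23, 217)), (8, (18, 222)), (9, (18, 222)), (11, (3, 237)), (12, (18, 222)), (13, (18, 222)), (14, (11, 229)), (15, (11, 229)), (16, (11, 229)), (18, (3, 237)), (19, (11, 229)), (20, (11, 229)), (21, (11, 229)), (23, (3, 237)), (24, (11, 229)), (25, (11, 229)), (27, (3, 237)), (28, (11, 229)), (29, (11, 229)), (30, (3, 237)), (33, (3, 237)), (34, (3, 237)), (35, (11, 229)), (37, (3, 237)), (38, (11, 229)), (39, (11, 229)), (40, (3, 237)), (43, (3, 237)), (44, (3, 237)), (45, (11, 229)), (46, (3, 237)), (49, (3, 237)), (50, (3, 237)), (51, (11, 229)), (52, (3, 237)), (53, (3, 237)), (55, (3, 237)), (56, (3, 237)), (59, (3, 237)), (60, (3, 237)), (61, (11, 229)), (62, (3, 237)), (63, (3, 237)), (65, (3, 237)), (66, (3, 237)), (67, (3, 237)), (69, (3, 237)), (70, (3, 237)), (71, (3, 237)), (72, (3, 237)), (74, (3, 237)), (75, (3, 237)), (76, (3, 237)), (77, (3, 237)),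 (78, (3, 237)), (81, (3, 237)), (82, (3, 237)), (83, (18, 222)), (84, (3, 237)), (85, (3, 237)), (87, (3, 237)), (88, (3, 237)), (89, (3, 237)), (91, (3, 237)), (92, (3, 237)), (93, (3, 237)), (94, (3, 237)), (96, (3, 237)), (97, (3, 237)), (98, (3, 237)), (99, (3, 237)), (100, (3, 237)), (102, (3, 237)), (103, (3, 237)), (104, (3, 237)), (105, (3, 237)), (106, (3, 237)), (108, (3, 237)), (109, (3, 237)), (110, (3, 237)), (111, (3, 237)), (113, (3, 237)), (117, (3, 237)), (118, (3, 237)), (119, (3, 237)), (120, (3, 237)), (123, (3, 237)), (124, (3, 237)), (125, (3, 237)), (127, (3, 237)), (128, (3, 237)), (129, (3, 237)), (130, (3, 237)), (132, (3, 237)), (133, (3, 237)), (134, (3, 237)), (135, (3, 237)), (136, (3, 237)), (138, (3, 237)), (139, (3, 237)), (140, (3, 237)), (141, (3, 237)), (142, (3, 237)), (144, (3, 237)), (145, (3, 237)), (146, (3, 237)), (147, (3, 237)), (149, (3, 237)), (150, (3, 237)), (151, (3, 237)), (153, (3, 237)), (154, (3, 237)), (155, (3, 237)), (156, (18, 222)), (159, (3,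 237)), (160, (3, 237)), (161, (3, 237)), (162, (3, 237)), (163, (3, 237)), (164, (3, 237)), (166, (3, 237)), (167, (3, 237)), (168, (3, 237)), (169, (3, 237)), (171, (3, 237)), (172, (3, 237)), (173, (3, 237)), (175, (3, 237)), (176, (3, 237)), (177, (3, 237)), (178, (11, 229)), (181, (3, 237)), (182, (3, 237)), (183, (3, 237)), (185, (3, 237)), (186, (3, 237)), (187, (3, 237)), (188, (11, 229)), (191, (3, 237)), (192, (3, 237)), (193, (3, 237)), (194, (11, 229)), (197, (3, 237)), (198, (3, 237)), (199, (3, 237)), (200, (11, 229)), (201, (11, 229)), (203, (3, 237)), (204, (11, 229)), (207, (3, 237)), (208, (3, 237)), (209, (3, 237)), (210, (11, 229)), (211, (11, 229)), (213, (3, 237)), (214, (11, 229)), (215, (11, 229)), (217, (3, 237)), (218, (11, 229)), (219, (11, 229)), (220, (11, 229)), (222, (3, 237)), (223, (11, 229)), (224, (11, 229)), (225, (11, 229)), (226, (18, 222)), (227, (18, 222)), (229, (3, 237)), (230, (18, 222)), (231, (18, 222)), (232, (23, 217)), (233, (18, 222)), (234, (23, 217)),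 (235, (27, 213)), (237, (11, 229)), (238, (33, 208)), (239, (34, 207))] [((3, 237), (156, 229, 11)), ((11, 229), (83, 237, 3)), ((18, 222), (61, 237, 3)), ((23, 217), (51, 237, 3)), ((27, 213), (45, 237, 3)), ((33, 208), (39, 237, 3)), ((34, 207), (38, 237, 3)), ((37, 203), (35, 237, 3)), ((43, 198), (29, 237, 3)), ((44, 197), (28, 237, 3)), ((49, 192), (25, 237, 3)), ((50, 191), (24, 237, 3)), ((55, 185), (21, 237, 3)), ((59, 182), (20, 237, 3)), ((60, 181), (19, 237, 3)), ((65, 175), (16, 237, 3)), ((69, 171), (15, 237, 3)), ((74, 166), (14, 237, 3)), ((81, 160), (13, 237, 3)), ((82, 159), (12, 237, 3)), ((87, 153), (9, 237, 3)), ((91, 149), (8, 237, 3)), ((96, 144), (7, 237, 3)), ((102, 138), (6, 237, 3)), ((108, 132), (5, 237, 3)), ((113, 127), (4, 237, 3)), ((117, 125), (13, 229, 11)), ((118, 124), (12, 229, 11)), ((124, 118), (1, 237, 3)), ((125, 117), (0, 237, 3)), ((127, 113), (9, 229, 11)), ((132, 108), (8, 229, 11)), ((138, 102), (7, 229, 11)), ((144, 96), (6, 229, 11)), ((149, 91), (5, 229,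 11)), ((153, 87), (4, 229, 11)), ((159, 82), (1, 229, 11)), ((160, 81), (0, 229, 11)), ((166, 74), (7, 222, 18)), ((171, 69), (5, 222, 18)), ((175, 65), (4, 222, 18)), ((181, 60), (1, 222, 18)), ((182, 59), (0, 222, 18)), ((185, 55), (4, 217, 23)), ((191, 50), (1, 217, 23)), ((192, 49), (0, 217, 23)), ((197, 44), (1, 213, 27)), ((198, 43), (0, 213, 27)), ((203, 37), (0, 208, 33)), ((207, 34), (1, 203, 37)), ((208, 33), (0, 203, 37)), ((213, 27), (0, 198, 43)), ((217, 23), (0, 192, 49)), ((222, 18), (0, 182, 59)), ((229, 11), (0, 160, 81)), ((237, 3), (0, 125, 117))] (3, 237) [((11, 229), (false, (83, 237, 3))), ((18, 222), (false, (61, 237, 3))), ((23, 217), (false, (51, 237, 3))), ((27, 213), (false, (45, 237, 3))), ((33, 208), (false, (39, 237, 3))), ((34, 207), (false, (38, 237, 3))), ((37, 203), (false, (35, 237, 3))), ((43, 198), (false, (29, 237, 3))), ((44, 197), (false, (28, 237, 3))), ((49, 192), (false, (25, 237, 3))), ((50, 191), (false, (24, 237, 3))), ((55, 185), (false, (21, 237, 3))),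 ((59, 182), (false, (20, 237, 3))), ((60, 181), (false, (19, 237, 3))), ((65, 175), (false, (16, 237, 3))), ((69, 171), (false, (15, 237, 3))), ((74, 166), (false, (14, 237, 3))), ((81, 160), (false, (13, 237, 3))), ((82, 159), (false, (12, 237, 3))), ((87, 153), (false, (9, 237, 3))), ((91, 149), (false, (8, 237, 3))), ((96, 144), (false, (7, 237, 3))), ((102, 138), (false, (6, 237, 3))), ((108, 132), (false, (5, 237, 3))), ((113, 127), (false, (4, 237, 3))), ((124, 118), (false, (1, 237, 3))), ((125, 117), (false, (0, 237, 3))), ((237, 3), (true, (0, 0, 0))), ((117, 125), (false, (13, 229, 11))), ((118, 124), (false, (12, 229, 11))), ((127, 113), (false, (9, 229, 11))), ((132, 108), (false, (8, 229, 11))), ((138, 102), (false, (7, 229, 11))), ((144, 96), (false, (6, 229, 11))), ((149, 91), (false, (5, 229, 11))), ((153, 87), (false, (4, 229, 11))), ((159, 82), (false, (1, 229, 11))), ((160, 81), (false, (0, 229, 11))), ((229, 11), (true, (0, 0, 0))), ((166, 74), (false, (7, 222, 18))), ((171, 69),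 (false, (5, 222, 18))), ((175, 65), (false, (4, 222, 18))), ((181, 60), (false, (1, 222, 18))), ((182, 59), (false, (0, 222, 18))), ((222, 18), (true, (0, 0, 0))), ((185, 55), (false, (4, 217, 23))), ((191, 50), (false, (1, 217, 23))), ((192, 49), (false, (0, 217, 23))), ((217, 23), (true, (0, 0, 0))), ((197, 44), (false, (1, 213, 27))), ((198, 43), (false, (0, 213, 27))), ((213, 27), (true, (0, 0, 0))), ((203, 37), (false, (0, 208, 33))), ((208, 33), (true, (0, 0, 0))), ((207, 34), (true, (0, 0, 0)))] = true := by decide +kernel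

theorem E8_u6 : okBase chevE8 E8.cert 6 [(0, (35, 205)), (2, (12, 228)), (3, (31, 209)), (4, (28, 212)), (5, (24, 216)), (6, (19, 221)), (7, (24, 216)), (8, (19, 221)), (9, (19, 221)), (10, (19, 221)), (12, (2, 238)), (13, (19, 221)), (14, (12, 228)), (15, (12, 228)), (16, (12, 228)), (17, (12, 228)), (19, (2, 238)), (20, (12, 228)), (21, (12, 228)), (22, (12, 228)), (24, (2, 238)), (25, (12, 228)), (26, (12, 228)), (28, (2, 238)), (29, (12, 228)), (31, (2, 238)), (32, (12, 228)), (33, (2, 238)), (35, (2, 238)), (36, (12, 228)), (38, (2, 238)), (39, (12, 228)), (41, (2, 238)), (42, (12, 228)), (43, (2, 238)), (45, (2, 238)), (47, (2, 238)), (48, (12, 228)), (49, (2, 238)), (51, (2, 238)), (52, (2, 238)), (54, (2, 238)), (55, (2, 238)), (57, (2, 238)), (58, (12, 228)), (59, (2, 238)), (61, (2, 238)), (62, (2, 238)), (64, (2, 238)), (65, (2, 238)), (66, (2, 238)), (68, (2, 238)), (69, (2, 238)), (70, (2, 238)), (71, (2, 238)), (73, (2, 238)), (74, (2, 238)), (75, (2, 238)), (76, (2, 238)), (77, (2, 238)),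 (79, (2, 238)), (80, (19, 221)), (81, (2, 238)), (83, (2, 238)), (84, (2, 238)), (86, (2, 238)), (87, (2, 238)), (88, (2, 238)), (90, (2, 238)), (91, (2, 238)), (92, (2, 238)), (93, (2, 238)), (95, (2, 238)), (96, (2, 238)), (97, (2, 238)), (98, (2, 238)), (99, (2, 238)), (101, (2, 238)), (102, (2, 238)), (103, (2, 238)), (104, (2, 238)), (105, (2, 238)), (107, (2, 238)), (108, (2, 238)), (109, (2, 238)), (110, (2, 238)), (112, (2, 238)), (113, (2, 238)), (114, (2, 238)), (116, (2, 238)), (119, (2, 238)), (121, (2, 238)), (122, (2, 238)), (124, (2, 238)), (125, (2, 238)), (126, (2, 238)), (128, (2, 238)), (129, (2, 238)), (130, (2, 238)), (131, (2, 238)), (133, (2, 238)), (134, (2, 238)), (135, (2, 238)), (136, (2, 238)), (137, (2, 238)), (139, (2, 238)), (140, (2, 238)), (141, (2, 238)), (142, (2, 238)), (143, (2, 238)), (145, (2, 238)), (146, (2, 238)), (147, (2, 238)), (148, (2, 238)), (150, (2, 238)), (151, (2, 238)), (152, (2, 238)), (154, (2, 238)), (155, (2, 238)), (157, (2, 238)), (158, (2,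 238)), (159, (19, 221)), (161, (2, 238)), (162, (2, 238)), (163, (2, 238)), (164, (2, 238)), (165, (2, 238)), (167, (2, 238)), (168, (2, 238)), (169, (2, 238)), (170, (2, 238)), (172, (2, 238)), (173, (2, 238)), (174, (2, 238)), (176, (2, 238)), (177, (2, 238)), (179, (2, 238)), (180, (2, 238)), (181, (12, 228)), (183, (2, 238)), (184, (2, 238)), (186, (2, 238)), (187, (2, 238)), (189, (2, 238)), (190, (2, 238)), (191, (12, 228)), (193, (2, 238)), (195, (2, 238)), (196, (2, 238)), (197, (12, 228)), (199, (2, 238)), (200, (12, 228)), (202, (2, 238)), (203, (12, 228)), (205, (2, 238)), (206, (2, 238)), (207, (12, 228)), (209, (2, 238)), (210, (12, 228)), (212, (2, 238)), (213, (12, 228)), (214, (12, 228)), (216, (2, 238)), (217, (12, 228)), (218, (12, 228)), (219, (12, 228)), (221, (2, 238)), (222, (12, 228)), (223, (12, 228)), (224, (12, 228)), (225, (12, 228)), (226, (19, 221)), (228, (2, 238)), (229, (19, 221)), (230, (19, 221)), (231, (19, 221)), (232, (24, 216)), (233, (19, 221)), (234, (24, 216)),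 (235, (28, 212)), (236, (31, 209)), (238, (12, 228)), (239, (35, 205))] [((2, 238), (159, 228, 12)), ((12, 228), (80, 238, 2)), ((19, 221), (58, 238, 2)), ((24, 216), (48, 238, 2)), ((28, 212), (42, 238, 2)), ((31, 209), (39, 238, 2)), ((35, 205), (36, 238, 2)), ((38, 202), (32, 238, 2)), ((41, 199), (29, 238, 2)), ((45, 195), (26, 238, 2)), ((47, 193), (25, 238, 2)), ((51, 189), (22, 238, 2)), ((54, 186), (21, 238, 2)), ((57, 183), (20, 238, 2)), ((61, 179), (17, 238, 2)), ((64, 176), (16, 238, 2)), ((68, 172), (15, 238, 2)), ((73, 167), (14, 238, 2)), ((79, 161), (13, 238, 2)), ((83, 157), (10, 238, 2)), ((86, 154), (9, 238, 2)), ((90, 150), (8, 238, 2)), ((95, 145), (7, 238, 2)), ((101, 139), (6, 238, 2)), ((107, 133), (5, 238, 2)), ((112, 128), (4, 238, 2)), ((116, 124), (3, 238, 2)), ((119, 122), (13, 228, 12)), ((122, 119), (0, 238, 2)), ((124, 116), (10, 228, 12)), ((128, 112), (9, 228, 12)), ((133, 107), (8, 228, 12)), ((139, 101), (7, 228, 12)), ((145, 95), (6, 228, 12)), ((150, 90), (5, 228,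 12)), ((154, 86), (4, 228, 12)), ((157, 83), (3, 228, 12)), ((161, 79), (0, 228, 12)), ((167, 73), (7, 221, 19)), ((172, 68), (5, 221, 19)), ((176, 64), (4, 221, 19)), ((179, 61), (3, 221, 19)), ((183, 57), (0, 221, 19)), ((186, 54), (4, 216, 24)), ((189, 51), (3, 216, 24)), ((193, 47), (0, 216, 24)), ((195, 45), (3, 212, 28)), ((199, 41), (0, 212, 28)), ((202, 38), (0, 209, 31)), ((205, 35), (3, 202, 38)), ((209, 31), (0, 202, 38)), ((212, 28), (0, 199, 41)), ((216, 24), (0, 193, 47)), ((221, 19), (0, 183, 57)), ((228, 12), (0, 161, 79)), ((238, 2), (0, 122, 119))] (2, 238) [((12, 228), (false, (80, 238, 2))), ((19, 221), (false, (58, 238, 2))), ((24, 216), (false, (48, 238, 2))), ((28, 212), (false, (42, 238, 2))), ((31, 209), (false, (39, 238, 2))), ((35, 205), (false, (36, 238, 2))), ((38, 202), (false, (32, 238, 2))), ((41, 199), (false, (29, 238, 2))), ((45, 195), (false, (26, 238, 2))), ((47, 193), (false, (25, 238, 2))), ((51, 189), (false, (22, 238, 2))), ((54, 186), (false, (21, 238, 2))),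 ((57, 183), (false, (20, 238, 2))), ((61, 179), (false, (17, 238, 2))), ((64, 176), (false, (16, 238, 2))), ((68, 172), (false, (15, 238, 2))), ((73, 167), (false, (14, 238, 2))), ((79, 161), (false, (13, 238, 2))), ((83, 157), (false, (10, 238, 2))), ((86, 154), (false, (9, 238, 2))), ((90, 150), (false, (8, 238, 2))), ((95, 145), (false, (7, 238, 2))), ((101, 139), (false, (6, 238, 2))), ((107, 133), (false, (5, 238, 2))), ((112, 128), (false, (4, 238, 2))), ((116, 124), (false, (3, 238, 2))), ((122, 119), (false, (0, 238, 2))), ((238, 2), (true, (0, 0, 0))), ((119, 122), (false, (13, 228, 12))), ((124, 116), (false, (10, 228, 12))), ((128, 112), (false, (9, 228, 12))), ((133, 107), (false, (8, 228, 12))), ((139, 101), (false, (7, 228, 12))), ((145, 95), (false, (6, 228, 12))), ((150, 90), (false, (5, 228, 12))), ((154, 86), (false, (4, 228, 12))), ((157, 83), (false, (3, 228, 12))), ((161, 79), (false, (0, 228, 12))), ((228, 12), (true, (0, 0, 0))), ((167, 73), (false, (7, 221, 19))), ((172, 68),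 (false, (5, 221, 19))), ((176, 64), (false, (4, 221, 19))), ((179, 61), (false, (3, 221, 19))), ((183, 57), (false, (0, 221, 19))), ((221, 19), (true, (0, 0, 0))), ((186, 54), (false, (4, 216, 24))), ((189, 51), (false, (3, 216, 24))), ((193, 47), (false, (0, 216, 24))), ((216, 24), (true, (0, 0, 0))), ((195, 45), (false, (3, 212, 28))), ((199, 41), (false, (0, 212, 28))), ((212, 28), (true, (0, 0, 0))), ((202, 38), (false, (0, 209, 31))), ((209, 31), (true, (0, 0, 0))), ((205, 35), (true, (0, 0, 0)))] = true := by decide +kernel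

theorem E8_u7 : okBase chevE8 E8.cert 7 [(1, (13, 227)), (2, (34, 206)), (3, (32, 208)), (4, (29, 211)), (5, (25, 215)), (6, (20, 220)), (7, (25, 215)), (8, (20, 220)), (9, (20, 220)), (10, (20, 220)), (11, (20, 220)), (13, (1, 239)), (14, (13, 227)), (15, (13, 227)), (16, (13, 227)), (17, (13, 227)), (18, (13, 227)), (20, (1, 239)), (21, (13, 227)), (22, (13, 227)), (23, (13, 227)), (25, (1, 239)), (26, (13, 227)), (27, (13, 227)), (29, (1, 239)), (30, (13, 227)), (32, (1, 239)), (34, (1, 239)), (35, (1, 239)), (36, (13, 227)), (37, (13, 227)), (39, (1, 239)), (40, (13, 227)), (42, (1, 239)), (44, (1, 239)), (45, (1, 239)), (46, (13, 227)), (48, (1, 239)), (50, (1, 239)), (51, (1, 239)), (53, (1, 239)), (54, (1, 239)), (55, (1, 239)), (56, (13, 227)), (58, (1, 239)), (60, (1, 239)), (61, (1, 239)), (63, (1, 239)), (64, (1, 239)), (65, (1, 239)), (67, (1, 239)), (68, (1, 239)), (69, (1, 239)), (70, (1, 239)), (72, (1, 239)), (73, (1, 239)), (74, (1, 239)), (75, (1, 239)), (76, (1, 239)), (77, (1, 239)),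 (78, (20, 220)), (80, (1, 239)), (82, (1, 239)), (83, (1, 239)), (85, (1, 239)), (86, (1, 239)), (87, (1, 239)), (89, (1, 239)), (90, (1, 239)), (91, (1, 239)), (92, (1, 239)), (94, (1, 239)), (95, (1, 239)), (96, (1, 239)), (97, (1, 239)), (98, (1, 239)), (100, (1, 239)), (101, (1, 239)), (102, (1, 239)), (103, (1, 239)), (104, (1, 239)), (106, (1, 239)), (107, (1, 239)), (108, (1, 239)), (109, (1, 239)), (111, (1, 239)), (112, (1, 239)), (113, (1, 239)), (115, (1, 239)), (116, (1, 239)), (118, (1, 239)), (120, (1, 239)), (122, (1, 239)), (123, (1, 239)), (125, (1, 239)), (126, (1, 239)), (127, (1, 239)), (129, (1, 239)), (130, (1, 239)), (131, (1, 239)), (132, (1, 239)), (134, (1, 239)), (135, (1, 239)), (136, (1, 239)), (137, (1, 239)), (138, (1, 239)), (140, (1, 239)), (141, (1, 239)), (142, (1, 239)), (143, (1, 239)), (144, (1, 239)), (146, (1, 239)), (147, (1, 239)), (148, (1, 239)), (149, (1, 239)), (151, (1, 239)), (152, (1, 239)), (153, (1, 239)), (155, (1, 239)), (156, (1, 239)), (158, (1,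 239)), (160, (1, 239)), (161, (20, 220)), (162, (1, 239)), (163, (1, 239)), (164, (1, 239)), (165, (1, 239)), (166, (1, 239)), (168, (1, 239)), (169, (1, 239)), (170, (1, 239)), (171, (1, 239)), (173, (1, 239)), (174, (1, 239)), (175, (1, 239)), (177, (1, 239)), (178, (1, 239)), (180, (1, 239)), (182, (1, 239)), (183, (13, 227)), (184, (1, 239)), (185, (1, 239)), (187, (1, 239)), (188, (1, 239)), (190, (1, 239)), (192, (1, 239)), (193, (13, 227)), (194, (1, 239)), (196, (1, 239)), (198, (1, 239)), (199, (13, 227)), (201, (1, 239)), (202, (13, 227)), (203, (13, 227)), (204, (1, 239)), (206, (1, 239)), (208, (1, 239)), (209, (13, 227)), (211, (1, 239)), (212, (13, 227)), (213, (13, 227)), (215, (1, 239)), (216, (13, 227)), (217, (13, 227)), (218, (13, 227)), (220, (1, 239)), (221, (13, 227)), (222, (13, 227)), (223, (13, 227)), (224, (13, 227)), (225, (13, 227)), (227, (1, 239)), (228, (20, 220)), (229, (20, 220)), (230, (20, 220)), (231, (20, 220)), (232, (25, 215)), (233, (20, 220)), (234, (25, 215)),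 (235, (29, 211)), (236, (32, 208)), (237, (34, 206)), (239, (13, 227))] [((1, 239), (161, 227, 13)), ((13, 227), (78, 239, 1)), ((20, 220), (56, 239, 1)), ((25, 215), (46, 239, 1)), ((29, 211), (40, 239, 1)), ((32, 208), (37, 239, 1)), ((34, 206), (36, 239, 1)), ((39, 201), (30, 239, 1)), ((42, 198), (27, 239, 1)), ((44, 196), (26, 239, 1)), ((48, 192), (23, 239, 1)), ((50, 190), (22, 239, 1)), ((53, 187), (21, 239, 1)), ((58, 182), (18, 239, 1)), ((60, 180), (17, 239, 1)), ((63, 177), (16, 239, 1)), ((67, 173), (15, 239, 1)), ((72, 168), (14, 239, 1)), ((80, 160), (11, 239, 1)), ((82, 158), (10, 239, 1)), ((85, 155), (9, 239, 1)), ((89, 151), (8, 239, 1)), ((94, 146), (7, 239, 1)), ((100, 140), (6, 239, 1)), ((106, 134), (5, 239, 1)), ((111, 129), (4, 239, 1)), ((115, 125), (3, 239, 1)), ((118, 122), (2, 239, 1)), ((122, 118), (11, 227, 13)), ((125, 115), (10, 227, 13)), ((129, 111), (9, 227, 13)), ((134, 106), (8, 227, 13)), ((140, 100), (7, 227, 13)), ((146, 94), (6, 227, 13)), ((151, 89), (5, 227,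 13)), ((155, 85), (4, 227, 13)), ((158, 82), (3, 227, 13)), ((160, 80), (2, 227, 13)), ((168, 72), (7, 220, 20)), ((173, 67), (5, 220, 20)), ((177, 63), (4, 220, 20)), ((180, 60), (3, 220, 20)), ((182, 58), (2, 220, 20)), ((187, 53), (4, 215, 25)), ((190, 50), (3, 215, 25)), ((192, 48), (2, 215, 25)), ((196, 44), (3, 211, 29)), ((198, 42), (2, 211, 29)), ((201, 39), (2, 208, 32)), ((206, 34), (3, 201, 39)), ((208, 32), (2, 201, 39)), ((211, 29), (2, 198, 42)), ((215, 25), (2, 192, 48)), ((220, 20), (2, 182, 58)), ((227, 13), (2, 160, 80)), ((239, 1), (2, 118, 122))] (1, 239) [((13, 227), (false, (78, 239, 1))), ((20, 220), (false, (56, 239, 1))), ((25, 215), (false, (46, 239, 1))), ((29, 211), (false, (40, 239, 1))), ((32, 208), (false, (37, 239, 1))), ((34, 206), (false, (36, 239, 1))), ((39, 201), (false, (30, 239, 1))), ((42, 198), (false, (27, 239, 1))), ((44, 196), (false, (26, 239, 1))), ((48, 192), (false, (23, 239, 1))), ((50, 190), (false, (22, 239, 1))), ((53, 187), (false, (21, 239, 1))),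 ((58, 182), (false, (18, 239, 1))), ((60, 180), (false, (17, 239, 1))), ((63, 177), (false, (16, 239, 1))), ((67, 173), (false, (15, 239, 1))), ((72, 168), (false, (14, 239, 1))), ((80, 160), (false, (11, 239, 1))), ((82, 158), (false, (10, 239, 1))), ((85, 155), (false, (9, 239, 1))), ((89, 151), (false, (8, 239, 1))), ((94, 146), (false, (7, 239, 1))), ((100, 140), (false, (6, 239, 1))), ((106, 134), (false, (5, 239, 1))), ((111, 129), (false, (4, 239, 1))), ((115, 125), (false, (3, 239, 1))), ((118, 122), (false, (2, 239, 1))), ((239, 1), (true, (0, 0, 0))), ((122, 118), (false, (11, 227, 13))), ((125, 115), (false, (10, 227, 13))), ((129, 111), (false, (9, 227, 13))), ((134, 106), (false, (8, 227, 13))), ((140, 100), (false, (7, 227, 13))), ((146, 94), (false, (6, 227, 13))), ((151, 89), (false, (5, 227, 13))), ((155, 85), (false, (4, 227, 13))), ((158, 82), (false, (3, 227, 13))), ((160, 80), (false, (2, 227, 13))), ((227, 13), (true, (0, 0, 0))), ((168, 72), (false, (7, 220, 20))), ((173, 67),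 (false, (5, 220, 20))), ((177, 63), (false, (4, 220, 20))), ((180, 60), (false, (3, 220, 20))), ((182, 58), (false, (2, 220, 20))), ((220, 20), (true, (0, 0, 0))), ((187, 53), (false, (4, 215, 25))), ((190, 50), (false, (3, 215, 25))), ((192, 48), (false, (2, 215, 25))), ((215, 25), (true, (0, 0, 0))), ((196, 44), (false, (3, 211, 29))), ((198, 42), (false, (2, 211, 29))), ((211, 29), (true, (0, 0, 0))), ((201, 39), (false, (2, 208, 32))), ((208, 32), (true, (0, 0, 0))), ((206, 34), (true, (0, 0, 0)))] = true := by decide +kernel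

theorem okU_E8 : OkU chevE8 E8.cert := by
  intro k hk
  have hk' : k < 8 := hk
  interval_cases k
  · exact ⟨_, _, _, _, E8_u0⟩
  · exact ⟨_, _, _, _, E8_u1⟩
  · exact ⟨_, _, _, _, E8_u2⟩
  · exact ⟨_, _, _, _, E8_u3⟩
  · exact ⟨_, _, _, _, E8_u4⟩
  · exact ⟨_, _, _, _, E8_u5⟩
  · exact ⟨_, _, _, _, E8_u6⟩
  · exact ⟨_, _, _, _, E8_u7⟩

end Cfsg.Lib.Chev.Univ
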