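import Cfsg.Agent.Chev.Univ.Section
import Cfsg.Agent.Chev.St.Center
import Cfsg.Agent.Chev.St.Cover
import Cfsg.Agent.Chev.St.Perfect
import Cfsg.Prelude.Def_KGroupFacts

/-! Schur multipliers of simply laced Chevalley groups. -/

set_option autoImplicit false

open Cfsg.Lie
open scoped commutatorElement

namespace Cfsg.Lib.Chev.Univ

variable {D : ChevalleyDatum} {C : Cert} {K : Type*} [Field K]

theorem pgen_eq_of (rels : Set (FreeGroup (Fin D.nroots × K))) (p : Fin D.nroots × K) :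
    St.pgen rels p.1.val p.2 = PresentedGroup.of p := by
  rw [St.pgen, ChevalleyDatum.stX, dif_pos p.1.isLt]
  rfl

theorem stem_cover [Finite K] (S : Struct D C) (hN : okNeg D = true) (okS : ∃ W, St.okSt D C W = true)
    {Γ : Type*} [Group Γ] (σ : Γ →* ↥(D.group K)) (hσ : Cfsg.IsStemExtension σ)
    (sec : ∀ PG : St.Pres D C K ↥(D.group K), PG.gen {r | r < D.nroots} = ⊤ → Function.Surjective σ →
      σ.ker ≤ Subgroup.center Γ → ∃ τ : D.SteinbergCover K →* Γ,
        ∀ r < D.nroots, ∀ t, σ (τ (D.scGen K r t)) = PG.x r t)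
    (θ' : D.SteinbergGroup K →* ↥(D.group K))
    (hθ' : ∀ r < D.nroots, ∀ t, (θ' (St.pgen (D.steinbergRels K) r t) : GL D.Idx K) = S.ok.xG r t) :
    ∃ τ : D.SteinbergGroup K →* Γ, σ.comp τ = θ' ∧ Function.Surjective τ := by
  obtain ⟨hs, hz, hd⟩ := hσ
  have hθ : ∀ r < D.nroots, ∀ t, (D.group K).subtype.comp θ' (St.pgen (D.steinbergRels K) r t) = S.ok.xG r t := hθ'
  set P0 := St.presentedPres S hN okS St.ab_subset ((D.group K).subtype.comp θ') hθ
  let PG : St.Pres D C K ↥(D.group K) :=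
    { S := S, hN := hN, ok := okS, x := fun r t => θ' (P0.x r t)
      hx := fun r hr t u => by rw [← map_mul, P0.hx r hr]
      hc := fun r hr s hs h1 h2 t u => by
        rw [← map_inv, ← map_inv, ← map_mul, ← map_mul, ← map_mul, P0.hc r hr s hs h1 h2, map_list_prod, List.map_map]
        rfl
      θ := (D.group K).subtype
      hθ := hθ' }
  have hgen := St.presentedPres_gen_top S hN okS St.ab_subset ((D.group K).subtype.comp θ') hθ
  have hθs : Function.Surjective θ' := by
    rintro ⟨y, hy⟩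
    rw [← St.range_eq_group P0 hgen] at hy
    obtain ⟨g, hg⟩ := hy
    exact ⟨g, Subtype.ext hg⟩
  have hgenG : PG.gen {r | r < D.nroots} = ⊤ := by
    rw [eq_top_iff, ← MonoidHom.range_eq_top.2 hθs, MonoidHom.range_eq_map, ← hgen, St.Pres.gen, St.Pres.gen,
      MonoidHom.map_closure, Subgroup.closure_le]
    rintro _ ⟨_, ⟨r, hr, t, rfl⟩, rfl⟩
    exact PG.mem_gen (A := {r | r < D.nroots}) hr t
  obtain ⟨τ₀, hτ₀⟩ := sec PG hgenG hs hz
  -- transfer to the group with (R3)
  have hθc : ∀ r < D.nroots, ∀ t, St.toChev S (St.ab_subset (D := D)) (St.pgen (D.steinbergRelsAB K) r t) =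
      S.ok.xG r t := fun r hr t => St.toChev_pgen S _ hr t
  set Pc := St.presentedPres S hN okS (subset_refl (D.steinbergRelsAB K)) _ hθc
  have h3 := Pc.r3_all (St.presentedPres_gen_top S hN okS (subset_refl (D.steinbergRelsAB K)) _ hθc)
  let f : Fin D.nroots × K → Γ := fun p => τ₀ (PresentedGroup.of p)
  have hf : FreeGroup.lift f = τ₀.comp (PresentedGroup.mk (D.steinbergRelsAB K)) :=
    FreeGroup.ext_hom _ _ fun p => by rw [FreeGroup.lift_apply_of]; rfl
  have hrel : ∀ g ∈ D.steinbergRels K, FreeGroup.lift f g = 1 := by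
    intro g hg
    rw [hf, MonoidHom.comp_apply]
    have h1 : PresentedGroup.mk (D.steinbergRelsAB K) g = 1 := by
      rcases hg with hg | ⟨r, t, u, hr, ht, hu, rfl⟩
      · exact St.mk_eq_one_of_mem hg
      · have := h3 r hr t u ht hu
        simp only [Pc, St.presentedPres_hh] at this
        rw [map_mul, map_mul, map_inv, this, mul_inv_cancel]
    rw [h1, map_one]
  have hcomp : σ.comp (PresentedGroup.toGroup hrel) = θ' := PresentedGroup.ext fun p => by
    rw [MonoidHom.comp_apply, PresentedGroup.toGroup.of]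
    show σ (τ₀ (PresentedGroup.of p)) = _
    have h := hτ₀ p.1.val p.1.isLt p.2
    rw [show D.scGen K p.1.val p.2 = PresentedGroup.of p from pgen_eq_of _ p] at h
    rw [← pgen_eq_of (D.steinbergRels K) p]
    exact h
  refine ⟨_, hcomp, ?_⟩
  set R := (PresentedGroup.toGroup hrel).range
  -- every element is a lift times a central element
  have hsup : ∀ y : Γ, ∃ r ∈ R, ∃ z ∈ Subgroup.center Γ, y = r * z := by
    intro y
    obtain ⟨g, hg⟩ := hθs (σ y)
    refine ⟨_, ⟨g, rfl⟩, (PresentedGroup.toGroup hrel g)⁻¹ * y, hz ?_, by group⟩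
    rw [MonoidHom.mem_ker, map_mul, map_inv, ← MonoidHom.comp_apply, hcomp, hg, inv_mul_cancel]
  have hcomm : commutator Γ ≤ R := by
    rw [commutator_def, Subgroup.commutator_le]
    intro a _ b _
    obtain ⟨r, hr, z, hz1, rfl⟩ := hsup a
    obtain ⟨r', hr', z', hz2, rfl⟩ := hsup b
    rw [Subgroup.mem_center_iff] at hz1 hz2
    have e : ⁅r * z, r' * z'⁆ = ⁅r, r'⁆ := by
      have c1 : ∀ y, z⁻¹ * y = y * z⁻¹ := fun y => (Commute.inv_right (show Commute y z from hz1 y)).symm
      rw [commutatorElement_def, commutatorElement_def, mul_inv_rev, mul_inv_rev]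
      calc r * z * (r' * z') * (z⁻¹ * r⁻¹) * (z'⁻¹ * r'⁻¹)
          = r * z * r' * (z' * (z⁻¹ * r⁻¹) * z'⁻¹) * r'⁻¹ := by group
        _ = r * (z * r') * z⁻¹ * r⁻¹ * r'⁻¹ := by rw [← hz2]; group
        _ = _ := by rw [← hz1]; group
    rw [e, commutatorElement_def]
    exact mul_mem (mul_mem (mul_mem hr hr') (inv_mem hr)) (inv_mem hr')
  intro y
  obtain ⟨g, hg⟩ := hθs (σ y)
  have hmem : (PresentedGroup.toGroup hrel g)⁻¹ * y ∈ R := hcomm (hd (by
    rw [MonoidHom.mem_ker, map_mul, map_inv, ← MonoidHom.comp_apply, hcomp, hg, inv_mul_cancel]))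
  obtain ⟨g', hg'⟩ := hmem
  exact ⟨g * g', by rw [map_mul, hg']; group⟩

theorem finite_of_finite_ker {G H : Type*} [Group G] [Group H] [Finite H] (f : G →* H) [Finite f.ker] : Finite G := by
  have : Finite (G ⧸ f.ker) := Finite.of_equiv _ (QuotientGroup.quotientKerEquivRange f).symm.toEquiv
  exact Finite.of_subgroup_quotient f.ker

/-- The Schur multiplier is cyclic of the order of the kernel of the torus. -/
theorem hasCyclicSchurMultiplier_of_section.{u} {K : Type u} [Field K] [Fintype K]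
    (hD : D ∈ [chevG2, chevB2, chevD4, chevF4, chevE6, chevE7, chevE8])
    (S : Struct D C) (hN : okNeg D = true) (okS : ∃ W, St.okSt D C W = true)
    (sec : ∀ (Γ : Type u) [Group Γ] (σ : Γ →* ↥(D.group K)) (PG : St.Pres D C K ↥(D.group K)),
      PG.gen {r | r < D.nroots} = ⊤ → Function.Surjective σ → σ.ker ≤ Subgroup.center Γ →
      ∃ τ : D.SteinbergCover K →* Γ, ∀ r < D.nroots, ∀ t, σ (τ (D.scGen K r t)) = PG.x r t)
    {md : Bool} {W : List (ℕ × ℕ)} (hW : okPerfect D md W = true) (hmd : md = true → ∃ a : K, a ≠ 0 ∧ a ≠ 1)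
    {d k : ℕ} {v w : List ℤ} {B : List (List ℤ)}
    (ht : St.okTorus D d k v w B = true) {n : ℕ}
    (hcard : Nat.card (Subgroup.center (D.SteinbergGroup K)) = n) :
    Cfsg.HasCyclicSchurMultiplier ↥(D.group K) n := by
  have hθ₀ : ∀ r < D.nroots, ∀ t, St.toChev S (subset_refl (D.steinbergRels K)) (St.pgen (D.steinbergRels K) r t) =
      S.ok.xG r t := fun r hr t => St.toChev_pgen S _ hr t
  set θ := St.toChev S (subset_refl (D.steinbergRels K))
  set P := St.presentedPres S hN okS St.ab_subset θ hθ₀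
  have hgen := St.presentedPres_gen_top S hN okS St.ab_subset θ hθ₀
  have h3 : P.R3 := by
    intro i hi t u ht hu
    rw [St.presentedPres_hh, St.presentedPres_hh, St.presentedPres_hh, ← mul_inv_eq_one, ← map_inv, ← map_mul,
      ← map_mul]
    exact St.mk_eq_one_of_mem (Or.inr ⟨C.sr i, t, u, S.ok.sr_lt hi, ht, hu, rfl⟩)
  have hran := St.range_eq_group P hgen
  let θ' : D.SteinbergGroup K →* ↥(D.group K) := θ.codRestrict (D.group K) fun g => hran ▸ ⟨g, rfl⟩
  have hθs : Function.Surjective θ' := by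
    rintro ⟨y, hy⟩
    rw [← hran] at hy
    obtain ⟨g, rfl⟩ := hy
    exact ⟨g, rfl⟩
  have hker : θ'.ker = Subgroup.center (D.SteinbergGroup K) := by
    rw [MonoidHom.ker_codRestrict]
    exact St.ker_eq_center θ hran (St.center_group_bot hD) fun g hg => (P.kernel hgen hg).2
  have hmap : θ'.ker = Subgroup.map (P.torus h3) (Ok.tG D K).ker := by
    rw [MonoidHom.ker_codRestrict]
    exact P.ker_eq_map_torus h3 hgen
  obtain ⟨hk, hiff⟩ := St.torus_ker (F := K) S.ok ht
  have : IsCyclic ↥(Ok.tG D K).ker := by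
    refine isCyclic_of_injective ((Pi.evalMonoidHom (fun _ => Kˣ) ⟨k, hk⟩).comp (Ok.tG D K).ker.subtype)
      fun a b hab => Subtype.ext (funext fun i => ?_)
    rw [((hiff a.1).1 a.2).2 i, ((hiff b.1).1 b.2).2 i, show a.1 ⟨k, hk⟩ = b.1 ⟨k, hk⟩ from hab]
  let e0 : ↥(Ok.tG D K).ker →* ↥θ'.ker :=
    ((P.torus h3).comp (Ok.tG D K).ker.subtype).codRestrict θ'.ker fun x =>
      hmap ▸ Subgroup.mem_map_of_mem _ x.2
  have he0 : Function.Surjective e0 := by
    rintro ⟨y, hy⟩
    rw [hmap] at hy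
    obtain ⟨x, hx, rfl⟩ := hy
    exact ⟨⟨x, hx⟩, rfl⟩
  have : IsCyclic ↥θ'.ker := isCyclic_of_surjective e0 he0
  have : Finite ↥θ'.ker := Finite.of_surjective e0 he0
  have : Finite (D.SteinbergGroup K) := finite_of_finite_ker θ'
  have hn : Nat.card (Multiplicative (ZMod n)) = Nat.card ↥θ'.ker := by
    rw [hker, hcard, Nat.card_congr Multiplicative.toAdd, Nat.card_zmod]
  refine ⟨⟨D.SteinbergGroup K, inferInstance, inferInstance, θ', ⟨hθs, hker.le, ?_⟩,
    ⟨(mulEquivOfCyclicCardEq hn).symm⟩⟩, fun Γ _ _ σ hσ => ?_⟩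
  · rw [P.perfect hgen hW hmd]
    exact le_top
  · obtain ⟨τ, hτ, hsurj⟩ := stem_cover S hN okS σ hσ (sec Γ σ) θ' hθ₀
    let g : ↥θ'.ker →* ↥σ.ker := (τ.comp θ'.ker.subtype).codRestrict σ.ker fun x => by
      show σ (τ x.1) = 1
      rw [← MonoidHom.comp_apply, hτ]
      exact x.2
    refine ⟨g.comp (mulEquivOfCyclicCardEq hn).toMonoidHom, ?_⟩
    rw [MonoidHom.coe_comp]
    refine Function.Surjective.comp ?_ (mulEquivOfCyclicCardEq hn).surjective
    rintro ⟨y, hy⟩
    obtain ⟨x, rfl⟩ := hsurj y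
    refine ⟨⟨x, ?_⟩, rfl⟩
    rw [MonoidHom.mem_ker, ← hτ]
    exact hy

/-- The simply laced case. -/
theorem hasCyclicSchurMultiplier [Fintype K] (hD : D ∈ [chevG2, chevB2, chevD4, chevF4, chevE6, chevE7, chevE8])
    (S : Struct D C) (hN : okNeg D = true) (okS : ∃ W, St.okSt D C W = true) (okU : OkU D C)
    {W : List (ℕ × ℕ)} (hW : okPerfect D false W = true) {d k : ℕ} {v w : List ℤ} {B : List (List ℤ)}
    (ht : St.okTorus D d k v w B = true) {n : ℕ}
    (hcard : Nat.card (Subgroup.center (D.SteinbergGroup K)) = n) :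
    Cfsg.HasCyclicSchurMultiplier ↥(D.group K) n :=
  hasCyclicSchurMultiplier_of_section hD S hN okS
    (fun _ _ σ _ _ hs hz => (⟨σ, hs, hz, okU⟩ : Ext _ _).exists_section) hW
    (fun h => absurd h Bool.false_ne_true) ht hcard

end Cfsg.Lib.Chev.Univ
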