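import Cfsg.Agent.Chev.St.Present

/-! Certified data for lifting Steinberg's relations through central extensions in the simply laced case. -/

set_option autoImplicit false

open Cfsg.Lie

namespace Cfsg.Lib.Chev.Univ

variable (D : ChevalleyDatum) (C : Cert)

/-- The reversed root. -/
noncomputable def rev (a : ℕ) : ℕ := Nat.sub (Nat.sub D.nroots 1) a

/-- No terms. -/
noncomputable def noTerms (a b : ℕ) : Bool :=
  @List.rec _ (fun _ => Bool) true (fun _ _ _ => false) (D.commTerms a b)

/-- A single term with unit coefficient and both exponents one. -/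
noncomputable def unitTerm (a b : ℕ) (ok : ℕ → Bool) : Bool :=
  match D.commTerms a b with
  | [q] => ok q.1 && Nat.beq q.2.1.natAbs 1 && Nat.beq q.2.2.1 1 && Nat.beq q.2.2.2 1
  | _ => false

/-- `r` is the single term of `a, b`. -/
noncomputable def term1 (a b r : ℕ) : Bool :=
  Nat.blt a D.nroots && Nat.blt b D.nroots && !Nat.beq b a && !Nat.beq b (rev D a) &&
    unitTerm D a b (fun q => Nat.beq q r)

/-- The root elements of `a` and `b` commute. -/
noncomputable def com0 (a b : ℕ) : Bool :=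
  Nat.blt a D.nroots && Nat.blt b D.nroots && (Nat.beq b a || (!Nat.beq b (rev D a) && noTerms D a b))

/-- Pairs starting with a fundamental root: unit term, or commuting with a witness. -/
noncomputable def okZero (T : List (ℕ × (ℕ × ℕ))) (p s : ℕ) : Bool :=
  Nat.beq s (rev D p) || (!Nat.beq s p && unitTerm D p s (fun _ => true)) ||
    (com0 D p s && kex (fun e => Nat.beq e.1 s && term1 D e.2.1 e.2.2 p && com0 D s e.2.1 && com0 D s e.2.2) T)

/-- `(a, b)` is linked to `(e, d)` through `b = c + d`. -/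
noncomputable def okEdge (p a b c d e : ℕ) : Bool :=
  term1 D a b p && term1 D c d b && term1 D a c e && term1 D e d p && com0 D a d && com0 D e b && com0 D p b

/-- Every decomposition with chain entry in row `a` is listed. -/
noncomputable def okListed (T : List ((ℕ × ℕ) × (ℕ × ℕ × ℕ))) (p a : ℕ) : Bool :=
  kall (fun e => !(kex (fun q => Nat.beq q.1 p) e.2.toList) || !term1 D a e.1 p ||
    kex (fun x => Nat.beq x.1.1 a && Nat.beq x.1.2 e.1 && okEdge D p a e.1 x.2.1 x.2.2.1 x.2.2.2) T)
    (D.chain.getD a #[]).toList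

/-- The tree of links ends at the base pair. -/
noncomputable def okTree (p : ℕ) (L : List ((ℕ × ℕ) × (Bool × (ℕ × ℕ × ℕ)))) : List (ℕ × ℕ) → Bool :=
  @List.rec _ (fun _ => List (ℕ × ℕ) → Bool) (fun _ => true)
    (fun x _ ih acc =>
      (Bool.rec
        (okEdge D p x.1.1 x.1.2 x.2.2.1 x.2.2.2.1 x.2.2.2.2 &&
          kex (fun y => Nat.beq y.1 x.2.2.2.2 && Nat.beq y.2 x.2.2.2.1) acc)
        (term1 D x.1.1 x.1.2 p && kex (fun y => Nat.beq y.1 x.1.2 && Nat.beq y.2 x.1.1) acc) x.2.1) &&
      ih (x.1 :: acc)) L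

/-- Every decomposition occurs in the tree. -/
noncomputable def okCovered (T : List ((ℕ × ℕ) × (ℕ × ℕ × ℕ))) (root : ℕ × ℕ)
    (L : List ((ℕ × ℕ) × (Bool × (ℕ × ℕ × ℕ)))) : Bool :=
  kall (fun x => kex (fun y => Nat.beq y.1 x.1.1 && Nat.beq y.2 x.1.2) (root :: kmap (fun z => z.1) L)) T

/-- All checks for one fundamental root. -/
noncomputable def okBase (k : ℕ) (Z : List (ℕ × (ℕ × ℕ))) (T : List ((ℕ × ℕ) × (ℕ × ℕ × ℕ))) (root : ℕ × ℕ)
    (L : List ((ℕ × ℕ) × (Bool × (ℕ × ℕ × ℕ)))) : Bool :=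
  kall (okZero D Z (C.sr k)) (krange 0 D.nroots) && kall (okListed D T (C.sr k)) (krange 0 D.nroots) &&
    term1 D root.1 root.2 (C.sr k) && okTree D (C.sr k) L [root] && okCovered T root L

/-- All checks. -/
def OkU : Prop :=
  ∀ k < D.rank, ∃ Z T root L, okBase D C k Z T root L = true

end Cfsg.Lib.Chev.Univ
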