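import Cfsg.Agent.Chev.Univ.Cert
import Cfsg.Agent.Chev.St.Perfect

/-! Lifting Steinberg's relations through a central extension. -/

set_option autoImplicit false

open Cfsg.Lie

namespace Cfsg.Lib.Chev.Univ

/-- A central extension of a group with Steinberg generators, with chosen lifts. -/
structure Ext {D : ChevalleyDatum} {C : Cert} {F : Type*} [Field F] {G : Type*} [Group G]
    (P : St.Pres D C F G) (E : Type*) [Group E] where
  /-- the projection -/
  π : E →* G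
  hπ : Function.Surjective π
  hz : π.ker ≤ Subgroup.center E
  okU : OkU D C

variable {D : ChevalleyDatum} {C : Cert} {F : Type*} [Field F] {G : Type*} [Group G]
variable {P : St.Pres D C F G} {E : Type*} [Group E]

namespace Ext

variable (X : Ext P E)
include X

/-- A lift of a generator. -/
noncomputable def lx (X : Ext P E) (r : ℕ) (t : F) : E := Function.surjInv X.hπ (P.x r t)

theorem π_lx (r : ℕ) (t : F) : X.π (X.lx r t) = P.x r t := Function.surjInv_eq X.hπ _

theorem central_diff {a b : E} (h : X.π a = X.π b) : ∃ z : E, (∀ y, y * z = z * y) ∧ a = b * z := by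
  refine ⟨b⁻¹ * a, fun y => ?_, by group⟩
  have : b⁻¹ * a ∈ Subgroup.center E := X.hz (by rw [MonoidHom.mem_ker, map_mul, map_inv, h, inv_mul_cancel])
  exact Subgroup.mem_center_iff.1 this y

/-- The commutator in the order of Steinberg's relation. -/
def cm (a b : E) : E := b⁻¹ * a⁻¹ * b * a

omit X in
theorem cm_central {a b z w : E} (hz : ∀ y, y * z = z * y) (hw : ∀ y, y * w = w * y) :
    cm (a * z) (b * w) = cm a b := by
  have hz' : ∀ y, z⁻¹ * y = y * z⁻¹ := fun y => (Commute.inv_right (show Commute y z from hz y)).symm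
  have hw' : ∀ y, w⁻¹ * y = y * w⁻¹ := fun y => (Commute.inv_right (show Commute y w from hw y)).symm
  calc cm (a * z) (b * w) = w⁻¹ * (b⁻¹ * z⁻¹ * a⁻¹ * b) * w * (a * z) := by simp only [cm]; group
    _ = (b⁻¹ * z⁻¹ * a⁻¹ * b) * (a * z) := by rw [hw']; group
    _ = b⁻¹ * (z⁻¹ * (a⁻¹ * b * a)) * z := by group
    _ = cm a b := by rw [hz']; simp only [cm]; group

theorem cm_congr {a a' b b' : E} (ha : X.π a = X.π a') (hb : X.π b = X.π b') : cm a b = cm a' b' := by
  obtain ⟨z, hz, rfl⟩ := X.central_diff ha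
  obtain ⟨w, hw, rfl⟩ := X.central_diff hb
  exact cm_central hz hw

theorem comm_congr {a a' b b' : E} (ha : X.π a = X.π a') (hb : X.π b = X.π b') (h : Commute a b) :
    Commute a' b' := by
  have h1 : cm a' b' = 1 := by
    rw [← X.cm_congr ha hb, cm, mul_assoc (b⁻¹ * a⁻¹) b a, ← h.eq]
    group
  rw [cm, mul_assoc, ← mul_inv_rev, inv_mul_eq_one] at h1
  exact h1

/-- The lifts of two roots commute. -/
def Lc (X : Ext P E) (r s : ℕ) : Prop := ∀ t u : F, Commute (X.lx r t) (X.lx s u)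

theorem lc_symm {r s : ℕ} (h : X.Lc r s) : X.Lc s r := fun t u => (h u t).symm

/-- The commutator of two lifts. -/
noncomputable def fc (X : Ext P E) (a b : ℕ) (t u : F) : E := cm (X.lx a t) (X.lx b u)

theorem com0_spec {a b : ℕ} (h : com0 D a b = true) :
    a < D.nroots ∧ b < D.nroots ∧ ∀ t u : F, Commute (P.x a t) (P.x b u) := by
  simp only [com0, Bool.and_eq_true, blt_true, Bool.or_eq_true, Bool.not_eq_true'] at h
  obtain ⟨⟨ha, hb⟩, h⟩ := h
  refine ⟨ha, hb, fun t u => ?_⟩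
  rcases h with h | ⟨h1, h2⟩
  · obtain rfl : b = a := Nat.eq_of_beq_eq_true h
    show P.x b t * P.x b u = P.x b u * P.x b t
    rw [P.hx b hb, P.hx b hb, add_comm]
  · by_cases e : b = a
    · subst e
      show P.x b t * P.x b u = P.x b u * P.x b t
      rw [P.hx b hb, P.hx b hb, add_comm]
    have e2 : b ≠ D.neg a := by rw [P.neg_eq_rev ha]; exact Nat.ne_of_beq_eq_false h1
    have := P.hc a ha b hb e e2 t u
    have he : D.commTerms a b = [] := by
      rw [noTerms] at h2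
      cases hL : D.commTerms a b with
      | nil => rfl
      | cons q L => rw [hL] at h2; exact absurd h2 (by simp)
    rw [ChevalleyDatum.commWord, he, List.map_nil, List.map_nil, List.prod_nil, mul_assoc, ← mul_inv_rev,
      inv_mul_eq_one] at this
    exact this

theorem unitTerm_spec {a b : ℕ} {ok : ℕ → Bool} (h : unitTerm D a b ok = true) :
    ∃ q : ℕ, ∃ c : ℤ, D.commTerms a b = [(q, c, 1, 1)] ∧ ok q = true ∧ c.natAbs = 1 := by
  rw [unitTerm] at h
  split at h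
  · rename_i q he
    simp only [Bool.and_eq_true] at h
    obtain ⟨⟨⟨h1, h2⟩, h3⟩, h4⟩ := h
    refine ⟨q.1, q.2.1, ?_, h1, ?_⟩
    · rw [he, ← Nat.eq_of_beq_eq_true h3]
      conv_rhs => arg 1; arg 2; arg 2; arg 2; rw [Nat.eq_of_beq_eq_true h3, ← Nat.eq_of_beq_eq_true h4]
    · exact Nat.eq_of_beq_eq_true h2
  · exact absurd h Bool.false_ne_true

/-- `r` is the only term of `a, b`, with coefficient `c`. -/
structure IsDec (X : Ext P E) (a b r : ℕ) (c : ℤ) : Prop where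
  la : a < D.nroots
  lb : b < D.nroots
  ne : b ≠ a
  nn : b ≠ D.neg a
  eq : D.commTerms a b = [(r, c, 1, 1)]
  un : c.natAbs = 1

theorem IsDec.sq {a b r : ℕ} {c : ℤ} (h : X.IsDec a b r c) : (c : F) * (c : F) = 1 := by
  rcases Int.natAbs_eq c with e | e <;> rw [h.un] at e <;> simp [e]

theorem term1_spec {a b r : ℕ} (h : term1 D a b r = true) : ∃ c, X.IsDec a b r c := by
  simp only [term1, Bool.and_eq_true, blt_true, Bool.not_eq_true'] at h
  obtain ⟨⟨⟨⟨ha, hb⟩, h1⟩, h2⟩, h3⟩ := h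
  obtain ⟨q, c, he, hq, hc⟩ := X.unitTerm_spec h3
  rw [Nat.eq_of_beq_eq_true hq] at he
  exact ⟨c, ha, hb, Nat.ne_of_beq_eq_false h1, by rw [P.neg_eq_rev ha]; exact Nat.ne_of_beq_eq_false h2, he, hc⟩

theorem π_cm {a b r : ℕ} {c : ℤ} (h : X.IsDec a b r c) {y z : E} {t u : F} (hy : X.π y = P.x a t)
    (hzz : X.π z = P.x b u) : X.π (cm y z) = P.x r ((c : F) * (-t) * u) := by
  simp only [cm, map_mul, map_inv, hy, hzz, P.hc a h.la b h.lb h.ne h.nn, ChevalleyDatum.commWord, h.eq,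
    List.map_cons, List.map_nil, List.prod_cons, List.prod_nil, mul_one, pow_one]

theorem π_fc {a b r : ℕ} {c : ℤ} (h : X.IsDec a b r c) (t u : F) :
    X.π (X.fc a b t u) = X.π (X.lx r ((c : F) * (-t) * u)) := by
  rw [fc, X.π_cm h (X.π_lx a t) (X.π_lx b u), X.π_lx]

/-- A root element commuting with both members of a decomposition commutes with the lifts. -/
theorem lc_of_dec {s a b r : ℕ} {c : ℤ} (h : X.IsDec a b r c) (ha : com0 D s a = true) (hb : com0 D s b = true) :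
    X.Lc s r := by
  intro t v
  obtain ⟨-, -, ha'⟩ := X.com0_spec ha
  obtain ⟨-, -, hb'⟩ := X.com0_spec hb
  set S := X.lx s t
  have hπ : ∀ {q : ℕ} {w : F}, (∀ t u : F, Commute (P.x s t) (P.x q u)) →
      X.π (S * X.lx q w * S⁻¹) = X.π (X.lx q w) := fun {q w} hq => by
    rw [map_mul, map_mul, map_inv, X.π_lx, X.π_lx, (hq t w).eq, mul_inv_cancel_right]
  have e : S * X.fc a b (-((c : F) * v)) 1 * S⁻¹ = X.fc a b (-((c : F) * v)) 1 := by
    rw [fc, show S * cm (X.lx a (-((c : F) * v))) (X.lx b 1) * S⁻¹ =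
      cm (S * X.lx a (-((c : F) * v)) * S⁻¹) (S * X.lx b 1 * S⁻¹) by simp only [cm]; group]
    exact X.cm_congr (hπ ha') (hπ hb')
  refine X.comm_congr rfl ?_ (mul_inv_eq_iff_eq_mul.1 e)
  rw [X.π_fc h, neg_neg, mul_one, ← mul_assoc, h.sq, one_mul]

/-- A lift of `n̄_i`. -/
noncomputable def ln (X : Ext P E) (i : ℕ) : E := Function.surjInv X.hπ (P.nn (C.sr i) 1)

theorem π_conj {i r : ℕ} (hi : i < D.rank) (hr : r < D.nroots) (t : F) :
    X.π (X.ln i * X.lx r t * (X.ln i)⁻¹) = X.π (X.lx (C.w i r) ((C.eta i r : F) * t)) := by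
  rw [map_mul, map_mul, map_inv, X.π_lx, X.π_lx, ln, Function.surjInv_eq X.hπ, P.nconj hi hr]

theorem conj_fc {i a b : ℕ} (hi : i < D.rank) (ha : a < D.nroots) (hb : b < D.nroots) (t u : F) :
    X.ln i * X.fc a b t u * (X.ln i)⁻¹ = X.fc (C.w i a) (C.w i b) ((C.eta i a : F) * t) ((C.eta i b : F) * u) := by
  rw [fc, fc, ← X.cm_congr (X.π_conj hi ha t) (X.π_conj hi hb u)]
  simp only [cm]
  group

theorem lc_step {i r s : ℕ} (hi : i < D.rank) (hr : r < D.nroots) (hs : s < D.nroots)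
    (h : X.Lc (C.w i r) (C.w i s)) : X.Lc r s := by
  intro t u
  have h1 := X.comm_congr (X.π_conj hi hr t).symm (X.π_conj hi hs u).symm (h ((C.eta i r : F) * t) ((C.eta i s : F) * u))
  have := Commute.map h1 (MulAut.conj (X.ln i)⁻¹).toMonoidHom
  simpa [mul_assoc] using this

theorem step_ne {i r s : ℕ} (hi : i < D.rank) (hr : r < D.nroots) (hs : s < D.nroots)
    (h2 : s ≠ D.neg r) : C.w i s ≠ D.neg (C.w i r) :=
  fun e => h2 (P.S.ok.w_inj hi hs (P.neg_lt hr) (by rw [e, P.neg_w hi hr]))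

/-- Either the lifts commute or there is a single term with unit coefficient. -/
def Dich (X : Ext P E) (r s : ℕ) : Prop :=
  ((s = r ∨ D.commTerms r s = []) ∧ X.Lc r s) ∨ ∃ q c, X.IsDec r s q c

theorem dich_base {k : ℕ} (hk : k < D.rank) {s : ℕ} (hs : s < D.nroots) (h2 : s ≠ D.neg (C.sr k)) :
    X.Dich (C.sr k) s := by
  obtain ⟨Z, T, root, L, h⟩ := X.okU k hk
  simp only [okBase, Bool.and_eq_true] at h
  have hp := P.sr_lt hk
  have h0 := kall_krange h.1.1.1.1 s hs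
  simp only [okZero, Bool.or_eq_true, Bool.and_eq_true, Bool.not_eq_true', kex_iff] at h0
  rcases h0 with (h0 | ⟨h0, h1⟩) | ⟨h0, e, -, ⟨⟨h1, h3⟩, h4⟩, h5⟩
  · exact absurd (by rw [P.neg_eq_rev hp]; exact Nat.eq_of_beq_eq_true h0) h2
  · obtain ⟨q, c, he, -, hc⟩ := X.unitTerm_spec h1
    exact Or.inr ⟨q, c, hp, hs, Nat.ne_of_beq_eq_false h0, h2, he, hc⟩
  · refine Or.inl ⟨?_, ?_⟩
    · simp only [com0, Bool.and_eq_true, blt_true, Bool.or_eq_true] at h0
      rcases h0.2 with h | ⟨-, h⟩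
      · exact Or.inl (Nat.eq_of_beq_eq_true h)
      · refine Or.inr ?_
        rw [noTerms] at h
        cases hL : D.commTerms (C.sr k) s with
        | nil => rfl
        | cons q L => rw [hL] at h; exact absurd h (by simp)
    · obtain ⟨c, hd⟩ := X.term1_spec h3
      exact X.lc_symm (X.lc_of_dec hd h4 h5)

theorem dich_step {i r s : ℕ} (hi : i < D.rank) (hr : r < D.nroots) (hs : s < D.nroots) (h2 : s ≠ D.neg r)
    (h : X.Dich (C.w i r) (C.w i s)) : X.Dich r s := by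
  have hw := P.S.ok.commTerms_w P.S.chain hi hr hs
  rcases h with ⟨h1, h3⟩ | ⟨q, c, hd⟩
  · refine Or.inl ⟨?_, X.lc_step hi hr hs h3⟩
    rcases h1 with h1 | h1
    · exact Or.inl (P.S.ok.w_inj hi hs hr h1)
    · refine Or.inr ?_
      rw [hw] at h1
      exact List.map_eq_nil_iff.1 h1
  · have he := hd.eq
    rw [hw, List.map_eq_singleton_iff] at he
    obtain ⟨⟨q', c', i', j'⟩, he, e⟩ := he
    simp only [termW, Prod.mk.injEq] at e
    obtain ⟨-, e2, rfl, rfl⟩ := e
    refine Or.inr ⟨q', c', hr, hs, fun e => hd.ne (by rw [e]), h2, he, ?_⟩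
    have hun := hd.un
    rw [← e2] at hun
    rcases Ok.eta_cases C i r with x1 | x1 <;> rcases Ok.eta_cases C i s with x2 | x2 <;>
      rcases Ok.eta_cases C i q' with x3 | x3 <;> simpa [x1, x2, x3, Int.natAbs_mul] using hun

theorem dich : ∀ r < D.nroots, ∀ s < D.nroots, s ≠ D.neg r → X.Dich r s := by
  refine P.S.ok.root_induction (fun i hi => ⟨fun s hs h2 => X.dich_base hi hs h2, fun s hs h2 => ?_⟩)
    fun i r hi hr ih s hs h2 => ?_
  · have hp := P.sr_lt hi
    have hw : C.w i (C.neg (C.sr i)) = C.sr i := by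
      rw [← (P.S.ok.refl_simple hi).1, P.S.ok.w_w hi hp]
    have hn := P.S.ok.neg_lt hp
    refine X.dich_step hi hn hs h2 ?_
    have := X.step_ne hi hn hs h2
    rw [hw] at this ⊢
    exact X.dich_base hi (P.S.ok.w_lt hi hs) this
  · exact X.dich_step hi hr hs h2 (ih _ (P.S.ok.w_lt hi hs) (X.step_ne hi hr hs h2))

theorem lc_self {r : ℕ} (hr : r < D.nroots) : X.Lc r r := by
  rcases X.dich r hr r hr (fun e => P.S.ok.neg_ne hr ((P.S.ok.neg_eq hr).trans e.symm)) with ⟨-, h⟩ | ⟨q, c, hd⟩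
  · exact h
  · exact absurd rfl hd.ne

theorem lc_of_com0 {a b : ℕ} (h : com0 D a b = true) : X.Lc a b := by
  simp only [com0, Bool.and_eq_true, blt_true, Bool.or_eq_true, Bool.not_eq_true'] at h
  obtain ⟨⟨ha, hb⟩, h⟩ := h
  rcases h with h | ⟨h1, h2⟩
  · rw [Nat.eq_of_beq_eq_true h]; exact X.lc_self ha
  · rcases X.dich a ha b hb (by rw [P.neg_eq_rev ha]; exact Nat.ne_of_beq_eq_false h1) with ⟨-, h⟩ | ⟨q, c, hd⟩
    · exact h
    · rw [noTerms, hd.eq] at h2; exact absurd h2 (by simp)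

theorem lc_term {a b r : ℕ} {c : ℤ} (h : X.IsDec a b r c) (hr : r < D.nroots) (h2 : b ≠ D.neg r)
    (h3 : D.commTerms r b = []) : X.Lc r b := by
  rcases X.dich r hr b h.lb h2 with ⟨-, h'⟩ | ⟨q, c', hd⟩
  · exact h'
  · rw [hd.eq] at h3; exact absurd h3 (by simp)

/-- Linking two decompositions. -/
theorem link {a b c d e r : ℕ} {cab ccd cac ced : ℤ} (hab : X.IsDec a b r cab) (hcd : X.IsDec c d b ccd)
    (hac : X.IsDec a c e cac) (hed : X.IsDec e d r ced) (had : X.Lc a d) (heb : X.Lc e b) (hrb : X.Lc r b)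
    (t v w : F) :
    X.fc a b t ((ccd : F) * (-v) * w) = X.fc e d ((cac : F) * (-t) * v) w := by
  set A := X.lx a t
  set cc := X.lx c v
  set dd := X.lx d w
  set B := cm cc dd
  set E1 := cm A cc
  have hB : X.π B = X.π (X.lx b ((ccd : F) * (-v) * w)) := X.π_fc hcd v w
  have hE : X.π E1 = X.π (X.lx e ((cac : F) * (-t) * v)) := X.π_fc hac t v
  have hEB : Commute E1 B := X.comm_congr hE.symm hB.symm (heb _ _)
  have hAd : Commute A dd := had t w
  have key : A⁻¹ * B * A = dd⁻¹ * E1⁻¹ * dd * B * E1 := by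
    have e1 : A⁻¹ * cc * A = cc * E1 := by simp only [E1, cm]; group
    have e2 : A⁻¹ * dd * A = dd := by rw [mul_assoc, ← hAd.eq, inv_mul_cancel_left]
    calc A⁻¹ * B * A = (A⁻¹ * dd * A)⁻¹ * (A⁻¹ * cc * A)⁻¹ * (A⁻¹ * dd * A) * (A⁻¹ * cc * A) := by
          simp only [B, cm]; group
      _ = _ := by rw [e1, e2]; simp only [B, cm]; group
  have h1 : cm A B = B⁻¹ * (dd⁻¹ * E1⁻¹ * dd * E1) * B := by
    rw [cm, mul_assoc (B⁻¹ * A⁻¹) B A]
    calc B⁻¹ * A⁻¹ * (B * A) = B⁻¹ * (A⁻¹ * B * A) := by group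
      _ = B⁻¹ * (dd⁻¹ * E1⁻¹ * dd * (B * E1)) := by rw [key]; group
      _ = _ := by rw [← hEB.eq]; group
  have h2 : cm E1 dd = X.fc e d ((cac : F) * (-t) * v) w := X.cm_congr hE rfl
  have h3 : Commute (X.fc e d ((cac : F) * (-t) * v) w) B :=
    X.comm_congr (X.π_fc hed _ _).symm hB.symm (hrb _ _)
  rw [fc, ← X.cm_congr rfl hB, h1, show dd⁻¹ * E1⁻¹ * dd * E1 = cm E1 dd from rfl, h2, mul_assoc, h3.eq,
    inv_mul_cancel_left]

theorem fc_add_right {a b r : ℕ} {c : ℤ} (h : X.IsDec a b r c) (hrb : X.Lc r b) (t u u' : F) :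
    X.fc a b t (u + u') = X.fc a b t u * X.fc a b t u' := by
  have hb : X.π (X.lx b u * X.lx b u') = X.π (X.lx b (u + u')) := by
    rw [map_mul, X.π_lx, X.π_lx, X.π_lx, P.hx b h.lb]
  have hcomm : Commute (X.fc a b t u) (X.lx b u') := X.comm_congr (X.π_fc h t u).symm rfl (hrb _ _)
  rw [fc, ← X.cm_congr rfl hb]
  calc cm (X.lx a t) (X.lx b u * X.lx b u')
      = (X.lx b u')⁻¹ * (X.fc a b t u * (X.lx a t)⁻¹) * X.lx b u' * X.lx a t := by simp only [cm, fc]; group
    _ = (X.lx b u')⁻¹ * X.fc a b t u * X.lx b u' * X.fc a b t u' := by simp only [cm, fc]; group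
    _ = _ := by rw [mul_assoc (X.lx b u')⁻¹, hcomm.eq, inv_mul_cancel_left]

theorem fc_swap (a b : ℕ) (t u : F) : X.fc b a u t = (X.fc a b t u)⁻¹ := by
  simp only [fc, cm]; group

/-- A common value of the commutators of all decompositions. -/
def Good (X : Ext P E) (r : ℕ) : Prop :=
  ∃ ψ : F → E, (∀ z, X.π (ψ z) = P.x r z) ∧ (∀ y z, ψ (y + z) = ψ y * ψ z) ∧
    ∀ a b c, X.IsDec a b r c → ∀ t u, X.fc a b t u = ψ ((c : F) * (-t) * u)

end Ext

end Cfsg.Lib.Chev.Univ
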