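import Cfsg.Agent.Chev.Univ.Lift
import Cfsg.Prelude.Def_SteinbergCover

/-! A central extension of a group with Steinberg generators receives a map from Steinberg's cover. -/

set_option autoImplicit false

open Cfsg.Lie

namespace Cfsg.Lib.Chev.Univ

theorem kmap_map {α β : Type} (f : α → β) : ∀ L : List α, kmap f L = L.map f
  | [] => rfl
  | a :: L => by simp only [List.map_cons, ← kmap_map f L]; rfl

variable {D : ChevalleyDatum} {C : Cert} {F : Type*} [Field F] {G : Type*} [Group G]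
variable {P : St.Pres D C F G} {E : Type*} [Group E]

namespace Ext

variable (X : Ext P E)
include X

theorem com0_of_edge {p a b c d e : ℕ} (h : okEdge D p a b c d e = true) :
    (∃ cab, X.IsDec a b p cab) ∧ (∃ ccd, X.IsDec c d b ccd) ∧ (∃ cac, X.IsDec a c e cac) ∧
      (∃ ced, X.IsDec e d p ced) ∧ X.Lc a d ∧ X.Lc e b ∧ X.Lc p b := by
  simp only [okEdge, Bool.and_eq_true] at h
  obtain ⟨⟨⟨⟨⟨⟨h1, h2⟩, h3⟩, h4⟩, h5⟩, h6⟩, h7⟩ := h
  exact ⟨X.term1_spec h1, X.term1_spec h2, X.term1_spec h3, X.term1_spec h4, X.lc_of_com0 h5, X.lc_of_com0 h6,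
    X.lc_of_com0 h7⟩

theorem edge_link {p a b c d e : ℕ} (h : okEdge D p a b c d e = true) :
    ∃ m : F, ∀ t u : F, X.fc a b t u = X.fc e d (m * (t * u)) 1 := by
  obtain ⟨⟨cab, h1⟩, ⟨ccd, h2⟩, ⟨cac, h3⟩, ⟨ced, h4⟩, h5, h6, h7⟩ := X.com0_of_edge h
  refine ⟨(cac : F) * (ccd : F), fun t u => ?_⟩
  have := X.link h1 h2 h3 h4 h5 h6 h7 t (-((ccd : F) * u)) 1
  rw [neg_neg, mul_one, ← mul_assoc, h2.sq, one_mul] at this
  rw [this]
  congr 1
  ring

theorem listed {p a b : ℕ} {c : ℤ} {T : List ((ℕ × ℕ) × (ℕ × ℕ × ℕ))} (h : X.IsDec a b p c)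
    (hT : kall (okListed D T p) (krange 0 D.nroots) = true) :
    ∃ x ∈ T, x.1.1 = a ∧ x.1.2 = b ∧ okEdge D p a b x.2.1 x.2.2.1 x.2.2.2 = true := by
  have hmem : (p, c, 1, 1) ∈ D.commTerms a b := by rw [h.eq]; exact List.mem_singleton_self _
  simp only [ChevalleyDatum.commTerms, List.mem_filterMap] at hmem
  obtain ⟨cd, hc', he⟩ := hmem
  simp only [Option.map_eq_some_iff] at he
  obtain ⟨v, hv, he⟩ := he
  simp only [Prod.mk.injEq] at he
  obtain ⟨rfl, e1⟩ := he
  simp only [List.mem_cons, List.not_mem_nil, or_false] at hc'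
  rcases hc' with rfl | rfl | rfl | rfl | rfl | rfl | rfl <;> simp [Prod.ext_iff] at e1
  obtain ⟨e, hem, heb, q, hq, hqv, -⟩ := P.chain_entry hv
  have h3 := kall_krange hT a h.la
  rw [okListed, kall_iff] at h3
  have h4 := h3 e hem
  rw [heb] at h4
  have ht : term1 D a b v = true := by
    simp only [term1, Bool.and_eq_true, blt_true, Bool.not_eq_true', unitTerm, h.eq]
    refine ⟨⟨⟨⟨h.la, h.lb⟩, ?_⟩, ?_⟩, ⟨⟨⟨?_, ?_⟩, ?_⟩, ?_⟩⟩
    · exact Bool.eq_false_iff.2 fun e => h.ne (Nat.eq_of_beq_eq_true e)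
    · exact Bool.eq_false_iff.2 fun e => h.nn (by rw [P.neg_eq_rev h.la]; exact Nat.eq_of_beq_eq_true e)
    · simp
    · simp [h.un]
    · simp
    · simp
  simp only [ht, Bool.or_eq_true, Bool.not_eq_true', Bool.true_eq_false, or_false] at h4
  rcases h4 with h4 | h4
  · rw [Bool.eq_false_iff] at h4
    exact absurd ((kex_iff _ _).2 ⟨q, hq, by simp [hqv]⟩) h4
  · obtain ⟨x, hx, hxe⟩ := (kex_iff _ _).1 h4
    simp only [Bool.and_eq_true] at hxe
    exact ⟨x, hx, Nat.eq_of_beq_eq_true hxe.1.1, Nat.eq_of_beq_eq_true hxe.1.2, hxe.2⟩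

theorem pin_ψ {a b r : ℕ} {c : ℤ} (h : X.IsDec a b r c) (hr : r < D.nroots) {ψ : F → E}
    (hψ : ∀ z, X.π (ψ z) = P.x r z) {t u : F} (he : ∃ z, X.fc a b t u = ψ z) :
    X.fc a b t u = ψ ((c : F) * (-t) * u) := by
  obtain ⟨z, hz⟩ := he
  have e := congrArg X.π hz
  rw [X.π_fc h, X.π_lx, hψ] at e
  have e' := congrArg P.θ e
  rw [P.hθ r hr, P.hθ r hr] at e'
  rw [hz, ← P.x_inj hr e']

/-- The values of a decomposition are those of `ψ`. -/
def Fits (X : Ext P E) (ψ : F → E) (a b : ℕ) : Prop := ∀ t u, ∃ z, X.fc a b t u = ψ z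

theorem fits_tree {p : ℕ} {ψ : F → E} (hneg : ∀ z, ψ (-z) = (ψ z)⁻¹) :
    ∀ (L : List ((ℕ × ℕ) × (Bool × (ℕ × ℕ × ℕ)))) (acc : List (ℕ × ℕ)), okTree D p L acc = true →
      (∀ y ∈ acc, X.Fits ψ y.1 y.2) → ∀ y, (y ∈ acc ∨ y ∈ L.map Prod.fst) → X.Fits ψ y.1 y.2
  | [], acc, _, hacc, y, hy => hacc y (by simpa using hy)
  | x :: L, acc, h, hacc, y, hy => by
    have h' : (Bool.rec
        (okEdge D p x.1.1 x.1.2 x.2.2.1 x.2.2.2.1 x.2.2.2.2 &&
          kex (fun y => Nat.beq y.1 x.2.2.2.2 && Nat.beq y.2 x.2.2.2.1) acc)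
        (term1 D x.1.1 x.1.2 p && kex (fun y => Nat.beq y.1 x.1.2 && Nat.beq y.2 x.1.1) acc) x.2.1 : Bool) = true ∧
        okTree D p L (x.1 :: acc) = true := (Bool.and_eq_true _ _).mp h
    obtain ⟨h1, h2⟩ := h'
    have hx : X.Fits ψ x.1.1 x.1.2 := by
      cases hb : x.2.1 with
      | true =>
        rw [hb] at h1
        simp only [Bool.and_eq_true, kex_iff] at h1
        obtain ⟨-, z, hz, e1, e2⟩ := h1
        intro t u
        obtain ⟨v, hv⟩ := hacc z hz u t
        rw [Nat.eq_of_beq_eq_true e1, Nat.eq_of_beq_eq_true e2, X.fc_swap x.1.1 x.1.2] at hv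
        exact ⟨-v, by rw [hneg, ← hv, inv_inv]⟩
      | false =>
        rw [hb] at h1
        simp only [Bool.and_eq_true, kex_iff] at h1
        obtain ⟨he, z, hz, e1, e2⟩ := h1
        obtain ⟨m, hm⟩ := X.edge_link he
        intro t u
        rw [hm]
        have := hacc z hz (m * (t * u)) 1
        rwa [Nat.eq_of_beq_eq_true e1, Nat.eq_of_beq_eq_true e2] at this
    refine fits_tree hneg L (x.1 :: acc) h2 (fun z hz => ?_) y ?_
    · rcases List.mem_cons.1 hz with rfl | hz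
      exacts [hx, hacc z hz]
    · rcases hy with hy | hy
      · exact Or.inl (List.mem_cons_of_mem _ hy)
      · rw [List.map_cons] at hy
        rcases List.mem_cons.1 hy with rfl | hy
        exacts [Or.inl List.mem_cons_self, Or.inr hy]

theorem good_base {k : ℕ} (hk : k < D.rank) : X.Good (C.sr k) := by
  obtain ⟨Z, T, root, L, h⟩ := X.okU k hk
  simp only [okBase, Bool.and_eq_true] at h
  obtain ⟨⟨⟨⟨-, hT⟩, hroot⟩, htree⟩, hcov⟩ := h
  have hp := P.sr_lt hk
  obtain ⟨c0, h0⟩ := X.term1_spec hroot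
  obtain ⟨x, -, hx1, hx2, hxe⟩ := X.listed h0 hT
  obtain ⟨-, -, -, -, -, -, hpb⟩ := X.com0_of_edge hxe
  obtain ⟨m, hm⟩ := X.edge_link hxe
  have hprod : ∀ t u, X.fc root.1 root.2 t u = X.fc root.1 root.2 1 (t * u) := fun t u => by
    rw [hm, hm, one_mul]
  set ψ : F → E := fun z => X.fc root.1 root.2 1 (-((c0 : F) * z)) with hψdef
  have hπ : ∀ z, X.π (ψ z) = P.x (C.sr k) z := fun z => by
    show X.π (X.fc _ _ _ _) = _
    rw [X.π_fc h0, X.π_lx]
    congr 1
    linear_combination z * h0.sq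
  have hadd : ∀ y z, ψ (y + z) = ψ y * ψ z := fun y z => by
    show X.fc _ _ _ _ = X.fc _ _ _ _ * X.fc _ _ _ _
    rw [← X.fc_add_right h0 hpb]
    congr 1
    ring
  have hneg : ∀ z, ψ (-z) = (ψ z)⁻¹ := fun z => by
    refine eq_inv_of_mul_eq_one_left ?_
    rw [← hadd, neg_add_cancel]
    have h1 := hadd 0 0
    rw [add_zero] at h1
    exact mul_eq_left.1 h1.symm
  have hfit0 : ∀ y ∈ [root], X.Fits ψ y.1 y.2 := by
    intro y hy t u
    rw [List.mem_singleton] at hy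
    subst hy
    refine ⟨-((c0 : F) * (t * u)), ?_⟩
    show _ = X.fc _ _ _ _
    rw [hprod]
    congr 1
    linear_combination (-(t * u)) * h0.sq
  refine ⟨ψ, hπ, hadd, fun a b c hd t u => X.pin_ψ hd hp hπ ?_⟩
  obtain ⟨z, hz, e1, e2, -⟩ := X.listed hd hT
  rw [okCovered, kall_iff] at hcov
  obtain ⟨y, hy, hy2⟩ := (kex_iff _ _).1 (hcov z hz)
  simp only [Bool.and_eq_true] at hy2
  rw [kmap_map, List.mem_cons] at hy
  have := X.fits_tree hneg L [root] htree hfit0 y (hy.imp (fun e => by simp [e]) id) t u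
  rwa [Nat.eq_of_beq_eq_true hy2.1, Nat.eq_of_beq_eq_true hy2.2, e1, e2] at this

theorem good_step {i r : ℕ} (hi : i < D.rank) (hr : r < D.nroots) (h : X.Good (C.w i r)) : X.Good r := by
  obtain ⟨ψ, hπ, hadd, hfit⟩ := h
  set N := X.ln i with hN
  have hπN : X.π N = P.nn (C.sr i) 1 := Function.surjInv_eq X.hπ _
  set ψ' : F → E := fun z => N⁻¹ * ψ ((C.eta i r : F) * z) * N with hψ'
  have hπ' : ∀ z, X.π (ψ' z) = P.x r z := fun z => by
    show X.π (N⁻¹ * ψ _ * N) = _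
    rw [map_mul, map_mul, map_inv, hπN, hπ, ← P.nconj hi hr]
    group
  refine ⟨ψ', hπ', fun y z => ?_, fun a b c hd t u => X.pin_ψ hd hr hπ' ?_⟩
  · show N⁻¹ * ψ _ * N = (N⁻¹ * ψ _ * N) * (N⁻¹ * ψ _ * N)
    rw [mul_add, hadd]
    group
  · have hw := P.S.ok.commTerms_w P.S.chain hi hd.la hd.lb
    rw [hd.eq, List.map_singleton] at hw
    simp only [termW, pow_one] at hw
    have hd' : X.IsDec (C.w i a) (C.w i b) (C.w i r) (c * C.eta i a * C.eta i b * C.eta i r) := by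
      refine ⟨P.S.ok.w_lt hi hd.la, P.S.ok.w_lt hi hd.lb, fun e => hd.ne (P.S.ok.w_inj hi hd.lb hd.la e),
        X.step_ne hi hd.la hd.lb hd.nn, hw, ?_⟩
      rcases Ok.eta_cases C i a with x1 | x1 <;> rcases Ok.eta_cases C i b with x2 | x2 <;>
        rcases Ok.eta_cases C i r with x3 | x3 <;> simp [x1, x2, x3, Int.natAbs_mul, hd.un]
    have e := X.conj_fc hi hd.la hd.lb t u
    rw [hfit _ _ _ hd', ← hN] at e
    generalize hzdef : ((c * C.eta i a * C.eta i b * C.eta i r : ℤ) : F) * -((C.eta i a : F) * t) *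
      ((C.eta i b : F) * u) = z at e
    refine ⟨(C.eta i r : F) * z, ?_⟩
    show _ = N⁻¹ * ψ _ * N
    rw [← mul_assoc (C.eta i r : F), Ok.eta_sq, one_mul, ← e]
    group

theorem good : ∀ r < D.nroots, X.Good r := by
  refine P.S.ok.root_induction (fun i hi => ⟨X.good_base hi, ?_⟩) fun i r hi hr ih => X.good_step hi hr ih
  refine X.good_step hi (P.S.ok.neg_lt (P.sr_lt hi)) ?_
  rw [← (P.S.ok.refl_simple hi).1, P.S.ok.w_w hi (P.sr_lt hi)]
  exact X.good_base hi

/-- The map from Steinberg's cover. -/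
theorem exists_section : ∃ τ : D.SteinbergCover F →* E,
    ∀ r < D.nroots, ∀ t, X.π (τ (D.scGen F r t)) = P.x r t := by
  classical
  have hg := X.good
  choose ψ hπ hadd hfit using hg
  let f : Fin D.nroots × F → E := fun p => ψ p.1.val p.1.isLt p.2
  have hx : ∀ r (hr : r < D.nroots) t, FreeGroup.lift f (D.stX r t) = ψ r hr t := fun r hr t => by
    rw [ChevalleyDatum.stX, dif_pos hr, FreeGroup.lift_apply_of]
  have hrel : ∀ g ∈ D.steinbergRelsAB F, FreeGroup.lift f g = 1 := by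
    intro g hg
    rcases hg with ⟨r, t, u, hr, rfl⟩ | ⟨r, s, t, u, hr, hs, h1, h2, rfl⟩
    · rw [map_mul, map_mul, map_inv, hx r hr, hx r hr, hx r hr, ← hadd, mul_inv_cancel]
    · have key : (ψ s hs u)⁻¹ * (ψ r hr t)⁻¹ * ψ s hs u * ψ r hr t =
          FreeGroup.lift f (D.stWord (D.commWord F r s t u)) := by
        rcases X.dich r hr s hs h2 with ⟨h3, h4⟩ | ⟨q, c, hd⟩
        · have he : D.commTerms r s = [] := h3.resolve_left h1
          have hc := X.comm_congr ((X.π_lx r t).trans (hπ r hr t).symm) ((X.π_lx s u).trans (hπ s hs u).symm) (h4 t u)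
          rw [ChevalleyDatum.commWord, he, List.map_nil, ChevalleyDatum.stWord, List.map_nil, List.prod_nil, map_one,
            mul_assoc, ← mul_inv_rev, inv_mul_eq_one]
          exact hc.eq
        · have hq : q < D.nroots := Ok.commTerms_lt P.S.chain hr hs (q := (q, c, 1, 1))
            (by rw [hd.eq]; exact List.mem_singleton_self _)
          rw [ChevalleyDatum.commWord, hd.eq, List.map_singleton, ChevalleyDatum.stWord, List.map_singleton,
            List.prod_singleton, hx q hq]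
          show Ext.cm (ψ r hr t) (ψ s hs u) = _
          rw [X.cm_congr ((hπ r hr t).trans (X.π_lx r t).symm) ((hπ s hs u).trans (X.π_lx s u).symm),
            pow_one, pow_one]
          exact hfit q hq r s c hd t u
      rw [map_mul, map_mul, map_mul, map_mul, map_inv, map_inv, map_inv, hx r hr, hx s hs, key, mul_inv_cancel]
  refine ⟨PresentedGroup.toGroup hrel, fun r hr t => ?_⟩
  rw [ChevalleyDatum.scGen, ChevalleyDatum.stX, dif_pos hr]
  exact (congrArg X.π (PresentedGroup.toGroup.of hrel)).trans (hπ r hr t)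

end Ext

end Cfsg.Lib.Chev.Univ
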